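import Cfsg.Agent.Base

/-! Kernel-friendly orbit enumeration on natural-number codes: a search tree of visited codes,
a work-list loop, and soundness / closure / counting lemmas. -/

set_option autoImplicit false

namespace CL.M24S

/-- identity; unfolding it returns control to the kernel's outer loop (keeps the stack flat) -/
def tramp {β : Type} (x : β) : β := x

/-- evaluate `x` to a numeral before continuing -/
noncomputable def force {β : Type} (x : ℕ) (k : ℕ → β) : β :=
  Nat.rec (k 0) (fun n _ => k n) (Nat.add x 1)

theorem force_eq {β : Type} (x : ℕ) (k : ℕ → β) : force x k = k x := rfl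

/-- binary search tree of codes -/
inductive BT : Type
  | leaf : BT
  | node : BT → ℕ → BT → BT

namespace BT

noncomputable def mem (x : ℕ) (t : BT) : Bool :=
  BT.rec false (fun _ v _ ml mr => Bool.rec mr (Bool.rec ml true (Nat.ble v x)) (Nat.ble x v)) t

noncomputable def insK (x : ℕ) (t : BT) : (BT → BT) → BT :=
  BT.rec (motive := fun _ => (BT → BT) → BT) (fun k => k (node leaf x leaf))
    (fun l v r il ir k => Bool.rec (ir fun r' => k (node l v r')) (il fun l' => k (node l' v r))
      (Nat.ble x v)) t

noncomputable def ins (x : ℕ) (t : BT) : BT :=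
  BT.rec (node leaf x leaf)
    (fun l v r il ir => Bool.rec (node l v ir) (node il v r) (Nat.ble x v)) t

theorem insK_eq (x : ℕ) (t : BT) (k : BT → BT) : insK x t k = k (ins x t) := by
  induction t generalizing k with
  | leaf => rfl
  | node l v r il ir =>
    show (Bool.rec (insK x r fun r' => k (node l v r')) (insK x l fun l' => k (node l' v r))
      (Nat.ble x v) : BT) = k (Bool.rec (node l v (ins x r)) (node (ins x l) v r) (Nat.ble x v))
    cases Nat.ble x v
    · exact ir _
    · exact il _

/-- in-order list of the codes, prepended to an accumulator -/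
noncomputable def toL (t : BT) : List ℕ → List ℕ :=
  BT.rec (motive := fun _ => List ℕ → List ℕ) (fun acc => acc)
    (fun _ v _ fl fr acc => fl (v :: fr acc)) t

/-- the codes stored in a tree -/
def In (x : ℕ) : BT → Prop
  | leaf => False
  | node l v r => In x l ∨ x = v ∨ In x r

theorem mem_toL (x : ℕ) (t : BT) (acc : List ℕ) : x ∈ toL t acc ↔ In x t ∨ x ∈ acc := by
  induction t generalizing acc with
  | leaf => simp [toL, In]
  | node l v r il ir =>
    show x ∈ toL l (v :: toL r acc) ↔ _
    rw [il, List.mem_cons, ir]
    simp only [In]; tauto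

theorem in_of_mem {x : ℕ} {t : BT} (h : mem x t = true) : In x t := by
  induction t with
  | leaf => exact absurd h (by simp [mem])
  | node l v r il ir =>
    change (Bool.rec (mem x r) (Bool.rec (mem x l) true (Nat.ble v x)) (Nat.ble x v) : Bool) = true at h
    cases h1 : Nat.ble x v
    · rw [h1] at h; exact Or.inr (Or.inr (ir h))
    · rw [h1] at h
      cases h2 : Nat.ble v x
      · rw [h2] at h; exact Or.inl (il h)
      · exact Or.inr (Or.inl (le_antisymm (Nat.le_of_ble_eq_true h1) (Nat.le_of_ble_eq_true h2)))

theorem in_ins {x y : ℕ} {t : BT} : In y (ins x t) ↔ y = x ∨ In y t := by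
  induction t with
  | leaf => simp [ins, In]
  | node l v r il ir =>
    show In y (Bool.rec (node l v (ins x r)) (node (ins x l) v r) (Nat.ble x v)) ↔ _
    cases Nat.ble x v
    · simp only [In, ir]; tauto
    · simp only [In, il]; tauto

end BT

/-- `List.all` through the recursor -/
noncomputable def allL {α : Type} (f : α → Bool) (l : List α) : Bool :=
  List.rec true (fun a _ r => Bool.rec false (tramp r) (f a)) l

theorem allL_iff {α : Type} {f : α → Bool} {l : List α} : allL f l = true ↔ ∀ a ∈ l, f a = true := by
  induction l with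
  | nil => simp [allL]
  | cons a l ih =>
    show (Bool.rec false (allL f l) (f a) : Bool) = true ↔ _
    cases h : f a <;> simp [h, ih]

/-- `List.any` through the recursor -/
noncomputable def anyL {α : Type} (f : α → Bool) (l : List α) : Bool :=
  List.rec false (fun a _ r => Bool.rec (tramp r) true (f a)) l

theorem anyL_iff {α : Type} {f : α → Bool} {l : List α} : anyL f l = true ↔ ∃ a ∈ l, f a = true := by
  induction l with
  | nil => simp [anyL]
  | cons a l ih =>
    show (Bool.rec (anyL f l) true (f a) : Bool) = true ↔ _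
    cases h : f a <;> simp [h, ih]

/-- counting loop with an evaluated accumulator -/
noncomputable def cntA {α : Type} (f : α → Bool) (l : List α) : ℕ → ℕ :=
  List.rec (motive := fun _ => ℕ → ℕ) (fun acc => acc)
    (fun a _ r acc => Bool.rec (tramp r acc) (force (Nat.succ acc) r) (f a)) l

theorem cntA_eq {α : Type} (f : α → Bool) (l : List α) (acc : ℕ) :
    cntA f l acc = (l.filter f).length + acc := by
  induction l generalizing acc with
  | nil => simp [cntA]
  | cons a l ih =>
    show (Bool.rec (cntA f l acc) (force (Nat.succ acc) (cntA f l)) (f a) : ℕ) = _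
    rw [force_eq]
    cases h : f a
    · simp [h, ih]
    · simp only [h, ih, List.filter_cons_of_pos, List.length_cons]; omega

/-- number of list entries passing a test -/
noncomputable def cntL {α : Type} (f : α → Bool) (l : List α) : ℕ := cntA f l 0

theorem cntL_eq {α : Type} (f : α → Bool) (l : List α) : cntL f l = (l.filter f).length :=
  cntA_eq f l 0

/-- `List.filter` through the recursor -/
noncomputable def filL {α : Type} (f : α → Bool) (l : List α) : List α :=
  List.rec [] (fun a _ r => Bool.rec (tramp r) (a :: r) (f a)) l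

theorem filL_eq {α : Type} (f : α → Bool) (l : List α) : filL f l = l.filter f := by
  induction l with
  | nil => rfl
  | cons a l ih =>
    show (Bool.rec (filL f l) (a :: filL f l) (f a) : List α) = _
    cases h : f a <;> simp [h, ih]

theorem mem_filL {α : Type} {f : α → Bool} {l : List α} {a : α} :
    a ∈ filL f l ↔ a ∈ l ∧ f a = true := by
  rw [filL_eq, List.mem_filter]

/-- length through the recursor -/
noncomputable def lenL {α : Type} (l : List α) : ℕ :=
  List.rec (motive := fun _ => ℕ → ℕ) (fun acc => acc) (fun _ _ r acc => force (Nat.succ acc) r) l 0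

theorem lenL_eq {α : Type} (l : List α) : lenL l = l.length := by
  have key : ∀ acc : ℕ, (List.rec (motive := fun _ => ℕ → ℕ) (fun acc => acc)
      (fun _ _ r acc => force (Nat.succ acc) r) l acc : ℕ) = l.length + acc := by
    induction l with
    | nil => intro acc; simp
    | cons a l ih =>
      intro acc
      show force (Nat.succ acc) _ = _
      rw [force_eq, ih, List.length_cons]; omega
  exact key 0

/-- all entries exceed `a` and increase strictly -/
noncomputable def incFrom (l : List ℕ) : ℕ → Bool :=
  List.rec (motive := fun _ => ℕ → Bool) (fun _ => true)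
    (fun b _ r a => Bool.rec false (tramp r b) (Nat.ble (Nat.succ a) b)) l

noncomputable def strictInc (l : List ℕ) : Bool :=
  List.rec true (fun b l _ => incFrom l b) l

theorem incFrom_spec {l : List ℕ} {a : ℕ} (h : incFrom l a = true) :
    (∀ b ∈ l, a < b) ∧ l.Pairwise (· < ·) := by
  induction l generalizing a with
  | nil => simp
  | cons b l ih =>
    change (Bool.rec false (incFrom l b) (Nat.ble (Nat.succ a) b) : Bool) = true at h
    cases h1 : Nat.ble (Nat.succ a) b
    · rw [h1] at h; exact absurd h (by simp)
    · rw [h1] at h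
      have hab : a < b := Nat.le_of_ble_eq_true h1
      obtain ⟨h2, h3⟩ := ih h
      refine ⟨?_, List.pairwise_cons.2 ⟨h2, h3⟩⟩
      intro c hc
      rcases List.mem_cons.1 hc with rfl | hc
      · exact hab
      · exact hab.trans (h2 c hc)

theorem strictInc_pairwise {l : List ℕ} (h : strictInc l = true) : l.Pairwise (· < ·) := by
  cases l with
  | nil => simp
  | cons b l =>
    obtain ⟨h2, h3⟩ := incFrom_spec (show incFrom l b = true from h)
    exact List.pairwise_cons.2 ⟨h2, h3⟩

theorem strictInc_nodup {l : List ℕ} (h : strictInc l = true) : l.Nodup :=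
  (strictInc_pairwise h).imp fun hab => ne_of_lt hab

/-- one work-list step: apply every generator to `x`, record and push the new codes -/
noncomputable def bfsStep (act : ℕ → ℕ → ℕ) (x : ℕ) (cont : List ℕ → BT → BT) (gens : List ℕ) :
    List ℕ → BT → BT :=
  List.rec (motive := fun _ => List ℕ → BT → BT) cont
    (fun c _ ih st t => force (act c x) fun y =>
      Bool.rec (BT.insK y t fun t' => ih (y :: st) t') (ih st t) (BT.mem y t)) gens

noncomputable def bfsLoop (act : ℕ → ℕ → ℕ) (gens : List ℕ) (fuel : ℕ) : List ℕ → BT → BT :=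
  Nat.rec (motive := fun _ => List ℕ → BT → BT) (fun _ t => t)
    (fun _ ih st t => List.rec t (fun x st' _ => bfsStep act x ih gens st' t) st) fuel

/-- the search tree of codes reached from `x0` (expanding at most `fuel` codes) -/
noncomputable def bfs (act : ℕ → ℕ → ℕ) (gens : List ℕ) (fuel x0 : ℕ) : BT :=
  bfsLoop act gens fuel [x0] (BT.node BT.leaf x0 BT.leaf)

theorem bfsStep_sound {act : ℕ → ℕ → ℕ} {P : ℕ → Prop} {x : ℕ} {cont : List ℕ → BT → BT}
    (hc : ∀ st t, (∀ y ∈ st, P y) → (∀ y, BT.In y t → P y) → ∀ y, BT.In y (cont st t) → P y)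
    (gens : List ℕ) (hg : ∀ c ∈ gens, P (act c x)) :
    ∀ st t, (∀ y ∈ st, P y) → (∀ y, BT.In y t → P y) →
      ∀ y, BT.In y (bfsStep act x cont gens st t) → P y := by
  induction gens with
  | nil => exact hc
  | cons c gens ih =>
    intro st t hst ht
    have ih' := ih fun c' hc' => hg c' (List.mem_cons_of_mem _ hc')
    show ∀ y, BT.In y (force (act c x) fun y =>
      Bool.rec (BT.insK y t fun t' => bfsStep act x cont gens (y :: st) t')
        (bfsStep act x cont gens st t) (BT.mem y t)) → P y
    rw [force_eq]
    have hP := hg c List.mem_cons_self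
    cases BT.mem (act c x) t
    · show ∀ y, BT.In y (BT.insK _ t fun t' => bfsStep act x cont gens (act c x :: st) t') → P y
      rw [BT.insK_eq]
      apply ih'
      · intro y hy
        rcases List.mem_cons.1 hy with rfl | hy
        · exact hP
        · exact hst y hy
      · intro y hy
        rcases BT.in_ins.1 hy with rfl | hy
        · exact hP
        · exact ht y hy
    · exact ih' st t hst ht

theorem bfsLoop_sound {act : ℕ → ℕ → ℕ} {gens : List ℕ} {P : ℕ → Prop}
    (hg : ∀ c ∈ gens, ∀ x, P x → P (act c x)) (fuel : ℕ) :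
    ∀ st t, (∀ y ∈ st, P y) → (∀ y, BT.In y t → P y) →
      ∀ y, BT.In y (bfsLoop act gens fuel st t) → P y := by
  induction fuel with
  | zero => intro st t _ ht; exact ht
  | succ n ih =>
    intro st t hst ht
    cases st with
    | nil => exact ht
    | cons x st =>
      exact bfsStep_sound ih gens (fun c hc => hg c hc x (hst x List.mem_cons_self)) st t
        (fun y hy => hst y (List.mem_cons_of_mem _ hy)) ht

/-- Soundness: an invariant of the generator steps holds on the whole search tree. -/
theorem bfs_sound {act : ℕ → ℕ → ℕ} {gens : List ℕ} {P : ℕ → Prop}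
    (hg : ∀ c ∈ gens, ∀ x, P x → P (act c x)) {fuel x0 : ℕ} (h0 : P x0) {y : ℕ}
    (hy : BT.In y (bfs act gens fuel x0)) : P y := by
  refine bfsLoop_sound hg fuel [x0] _ ?_ ?_ y hy
  · intro y hy; rw [List.mem_singleton.1 hy]; exact h0
  · intro y hy
    simp only [BT.In, false_or, or_false] at hy
    rw [hy]; exact h0

/-- every code of the list `U` lies in the search tree -/
noncomputable def covers (act : ℕ → ℕ → ℕ) (gens : List ℕ) (fuel x0 : ℕ) (U : List ℕ) : Bool :=
  (fun t => allL (fun y => BT.mem y t) U) (bfs act gens fuel x0)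

theorem covers_sound {act : ℕ → ℕ → ℕ} {gens : List ℕ} {P : ℕ → Prop}
    (hg : ∀ c ∈ gens, ∀ x, P x → P (act c x)) {fuel x0 : ℕ} (h0 : P x0) {U : List ℕ}
    (h : covers act gens fuel x0 U = true) : ∀ y ∈ U, P y := fun y hy =>
  bfs_sound hg h0 (BT.in_of_mem (allL_iff.1 h y hy))

/-- the sorted list of the codes reached -/
noncomputable def orbL (act : ℕ → ℕ → ℕ) (gens : List ℕ) (fuel x0 : ℕ) : List ℕ :=
  BT.toL (bfs act gens fuel x0) []

theorem orbL_sound {act : ℕ → ℕ → ℕ} {gens : List ℕ} {P : ℕ → Prop}
    (hg : ∀ c ∈ gens, ∀ x, P x → P (act c x)) {fuel x0 : ℕ} (h0 : P x0) :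
    ∀ y ∈ orbL act gens fuel x0, P y := fun y hy => by
  rw [orbL, BT.mem_toL] at hy
  exact bfs_sound hg h0 (by simpa using hy)

/-- the search found `n` distinct codes, each passing the test `ok` -/
noncomputable def orbCount (act : ℕ → ℕ → ℕ) (gens : List ℕ) (fuel x0 : ℕ) (ok : ℕ → Bool)
    (n : ℕ) : Bool :=
  (fun l => Bool.rec false (Bool.rec false (allL ok l) (Nat.beq (lenL l) n)) (strictInc l))
    (orbL act gens fuel x0)

theorem orbCount_spec {act : ℕ → ℕ → ℕ} {gens : List ℕ} {fuel x0 : ℕ} {ok : ℕ → Bool} {n : ℕ}
    (h : orbCount act gens fuel x0 ok n = true) :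
    (orbL act gens fuel x0).Nodup ∧ (orbL act gens fuel x0).length = n ∧
      ∀ y ∈ orbL act gens fuel x0, ok y = true := by
  unfold orbCount at h
  simp only at h
  cases h1 : strictInc (orbL act gens fuel x0)
  · rw [h1] at h; exact absurd h (by simp)
  · rw [h1] at h
    cases h2 : Nat.beq (lenL (orbL act gens fuel x0)) n
    · rw [h2] at h; exact absurd h (by simp)
    · rw [h2] at h
      exact ⟨strictInc_nodup h1, by rw [← lenL_eq]; exact Nat.eq_of_beq_eq_true h2, allL_iff.1 h⟩

/-- the search tree is closed under the generators, has `n` distinct codes, all passing `ok` -/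
noncomputable def orbClosed (act : ℕ → ℕ → ℕ) (gens : List ℕ) (fuel x0 : ℕ) (ok : ℕ → Bool)
    (n : ℕ) : Bool :=
  (fun t => (fun l => Bool.rec false (Bool.rec false (Bool.rec false (Bool.rec false
      (allL (fun x => allL (fun c => force (act c x) fun y => BT.mem y t) gens) l) (BT.mem x0 t))
      (allL ok l)) (Nat.beq (lenL l) n)) (strictInc l)) (BT.toL t []))
    (bfs act gens fuel x0)

theorem orbClosed_spec {act : ℕ → ℕ → ℕ} {gens : List ℕ} {fuel x0 : ℕ} {ok : ℕ → Bool} {n : ℕ}
    (h : orbClosed act gens fuel x0 ok n = true) :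
    (orbL act gens fuel x0).Nodup ∧ (orbL act gens fuel x0).length = n ∧
      (∀ y ∈ orbL act gens fuel x0, ok y = true) ∧ x0 ∈ orbL act gens fuel x0 ∧
      ∀ x ∈ orbL act gens fuel x0, ∀ c ∈ gens, act c x ∈ orbL act gens fuel x0 := by
  unfold orbClosed at h
  simp only at h
  change (Bool.rec false (Bool.rec false (Bool.rec false (Bool.rec false
      (allL (fun x => allL (fun c => force (act c x) fun y => BT.mem y (bfs act gens fuel x0)) gens)
        (orbL act gens fuel x0)) (BT.mem x0 (bfs act gens fuel x0)))
      (allL ok (orbL act gens fuel x0))) (Nat.beq (lenL (orbL act gens fuel x0)) n))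
      (strictInc (orbL act gens fuel x0)) : Bool) = true at h
  cases h1 : strictInc (orbL act gens fuel x0)
  · rw [h1] at h; exact absurd h (by simp)
  rw [h1] at h
  cases h2 : Nat.beq (lenL (orbL act gens fuel x0)) n
  · rw [h2] at h; exact absurd h (by simp)
  rw [h2] at h
  cases h3 : allL ok (orbL act gens fuel x0)
  · rw [h3] at h; exact absurd h (by simp)
  rw [h3] at h
  cases h4 : BT.mem x0 (bfs act gens fuel x0)
  · rw [h4] at h; exact absurd h (by simp)
  rw [h4] at h
  refine ⟨strictInc_nodup h1, by rw [← lenL_eq]; exact Nat.eq_of_beq_eq_true h2, allL_iff.1 h3,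
    ?_, ?_⟩
  · rw [orbL, BT.mem_toL]; exact Or.inl (BT.in_of_mem h4)
  · intro x hx c hc
    have := allL_iff.1 (allL_iff.1 h x hx) c hc
    rw [force_eq] at this
    rw [orbL, BT.mem_toL]; exact Or.inl (BT.in_of_mem this)

end CL.M24S
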