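import Cfsg.Agent.Base

/-! Overgroups of a point stabiliser from the orbits of the stabiliser (suborbit arithmetic). -/

set_option autoImplicit false

namespace CL.M24S
open MulAction

variable {G X : Type*} [Group G] [MulAction G X]

theorem ncard_orbit_subgroup_dvd [Finite G] (x : X) (K : Subgroup G) (hK : stabilizer G x ≤ K) :
    (orbit K x).ncard ∣ (orbit G x).ncard := by
  have h1 : (orbit G x).ncard = (stabilizer G x).index := (index_stabilizer G x).symm
  have h2 : (orbit K x).ncard = (stabilizer K x).index := (index_stabilizer K x).symm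
  have h3 : stabilizer K x = (stabilizer G x).subgroupOf K := by ext; rfl
  rw [h1, h2, h3]
  exact Subgroup.relIndex_dvd_index_of_le hK

theorem eq_top_of_orbit_eq (x : X) (K : Subgroup G) (hK : stabilizer G x ≤ K)
    (h : orbit G x ⊆ orbit K x) : K = ⊤ := by
  rw [eq_top_iff]
  intro g _
  obtain ⟨k, hk⟩ := h (mem_orbit x g)
  have : (k : G)⁻¹ * g ∈ stabilizer G x := by
    rw [mem_stabilizer_iff, mul_smul, inv_smul_eq_iff]; exact hk.symm
  simpa using K.mul_mem k.2 (hK this)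

/-- An overgroup `K` of the stabiliser of `x` moves `x` through a union of classes whose total
size divides the degree. -/
theorem overgroup_classes [Finite G] (x : X) (cls : X → ℕ) (vals : Finset ℕ) (N : ℕ → ℕ)
    (hvals : ∀ y ∈ orbit G x, cls y ∈ vals)
    (hN : ∀ v ∈ vals, {y | y ∈ orbit G x ∧ cls y = v}.ncard = N v)
    (hrank : ∀ y ∈ orbit G x, ∀ z ∈ orbit G x, cls y = cls z → ∃ h : G, h • x = x ∧ h • y = z)
    (K : Subgroup G) (hK : stabilizer G x ≤ K) :
    ∃ I ⊆ vals, cls x ∈ I ∧ (∑ v ∈ I, N v) ∣ ∑ v ∈ vals, N v ∧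
      (∀ y ∈ orbit K x, cls y ∈ I) ∧ (∑ v ∈ I, N v = ∑ v ∈ vals, N v → K = ⊤) := by
  classical
  have hfin : (orbit G x).Finite := Set.finite_range _
  have hsub : orbit K x ⊆ orbit G x := orbit_subgroup_subset K x
  have hsum : ∀ I ⊆ vals, {y | y ∈ orbit G x ∧ cls y ∈ I}.ncard = ∑ v ∈ I, N v := by
    intro I hI
    have hf : {y | y ∈ orbit G x ∧ cls y ∈ I}.Finite := hfin.subset fun y hy => hy.1
    rw [Set.ncard_eq_toFinset_card _ hf,
      Finset.card_eq_sum_card_fiberwise (f := cls) (t := I) (fun y hy => by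
        simpa using (hf.mem_toFinset.1 hy).2)]
    apply Finset.sum_congr rfl
    intro v hv
    rw [← hN v (hI hv), ← Set.ncard_coe_finset]
    congr 1
    ext y
    simp only [Finset.coe_filter, Set.Finite.mem_toFinset, Set.mem_ofPred_eq]
    constructor
    · rintro ⟨⟨h1, -⟩, h2⟩; exact ⟨h1, h2⟩
    · rintro ⟨h1, h2⟩; exact ⟨⟨h1, h2 ▸ hv⟩, h2⟩
  set I := vals.filter fun v => ∃ y ∈ orbit K x, cls y = v with hI
  have hIv : I ⊆ vals := Finset.filter_subset _ _
  have hmem : ∀ y ∈ orbit K x, cls y ∈ I := fun y hy =>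
    Finset.mem_filter.2 ⟨hvals y (hsub hy), y, hy, rfl⟩
  have hO : orbit K x = {y | y ∈ orbit G x ∧ cls y ∈ I} := by
    ext y
    refine ⟨fun hy => ⟨hsub hy, hmem y hy⟩, ?_⟩
    rintro ⟨hy, hc⟩
    obtain ⟨-, z, hz, hzy⟩ := Finset.mem_filter.1 hc
    obtain ⟨h, hh1, hh2⟩ := hrank z (hsub hz) y hy hzy
    obtain ⟨k, rfl⟩ := hz
    exact ⟨⟨h, hK hh1⟩ * k, by rw [← hh2]; simp only [mul_smul]; rfl⟩
  have hG : orbit G x = {y | y ∈ orbit G x ∧ cls y ∈ vals} := by
    ext y; exact ⟨fun hy => ⟨hy, hvals y hy⟩, fun hy => hy.1⟩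
  have h1 : (orbit K x).ncard = ∑ v ∈ I, N v := by rw [hO, hsum I hIv]
  have h2 : (orbit G x).ncard = ∑ v ∈ vals, N v := by rw [hG, hsum vals subset_rfl]
  refine ⟨I, hIv, hmem x (mem_orbit_self x), h1 ▸ h2 ▸ ncard_orbit_subgroup_dvd x K hK, hmem, ?_⟩
  intro h
  apply eq_top_of_orbit_eq x K hK
  exact (Set.eq_of_subset_of_ncard_le hsub (by rw [h1, h2, h]) hfin).ge

/-- The stabiliser is maximal when no union of classes gives a proper divisor of the degree. -/
theorem isCoatom_stabilizer_of_classes [Finite G] (x : X) (cls : X → ℕ) (vals : Finset ℕ)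
    (N : ℕ → ℕ) (hvals : ∀ y ∈ orbit G x, cls y ∈ vals)
    (hN : ∀ v ∈ vals, {y | y ∈ orbit G x ∧ cls y = v}.ncard = N v)
    (hrank : ∀ y ∈ orbit G x, ∀ z ∈ orbit G x, cls y = cls z → ∃ h : G, h • x = x ∧ h • y = z)
    (v0 : ℕ) (h0 : cls x = v0) (hne : ∃ g : G, g • x ≠ x)
    (harith : ∀ I ∈ vals.powerset, v0 ∈ I → (∑ v ∈ I, N v) ∣ ∑ v ∈ vals, N v →
      I = {v0} ∨ ∑ v ∈ I, N v = ∑ v ∈ vals, N v) :
    IsCoatom (stabilizer G x) := by
  refine ⟨?_, fun K hK => ?_⟩
  · intro h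
    obtain ⟨g, hg⟩ := hne
    exact hg (mem_stabilizer_iff.1 (h ▸ Subgroup.mem_top g))
  · obtain ⟨I, hI, h1, h2, h3, h4⟩ := overgroup_classes x cls vals N hvals hN hrank K hK.le
    rcases harith I (Finset.mem_powerset.2 hI) (h0 ▸ h1) h2 with h | h
    · exfalso
      apply hK.not_ge
      intro k hk
      have h5 := h3 (k • x) ⟨⟨k, hk⟩, rfl⟩
      rw [h, Finset.mem_singleton, ← h0] at h5
      obtain ⟨g, hg1, hg2⟩ := hrank x (mem_orbit_self x) (k • x) (mem_orbit x k) h5.symm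
      rw [mem_stabilizer_iff, ← hg2, hg1]
    · exact h4 h

/-- Orbits of `H` on a finite invariant set are determined by an invariant that separates
representatives, lower bounds for the orbit lengths and the total count. -/
theorem orbits_of_lower_bounds {H : Type*} [Group H] [MulAction H X] {ι : Type*} [Fintype ι]
    (Ω : Set X) (hΩ : Ω.Finite) (y : ι → X) (n : ι → ℕ) (hsub : ∀ i, orbit H (y i) ⊆ Ω)
    (hdisj : ∀ i j, y j ∈ orbit H (y i) → i = j) (hn : ∀ i, n i ≤ (orbit H (y i)).ncard)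
    (htot : Ω.ncard ≤ ∑ i, n i) :
    (∀ i, (orbit H (y i)).ncard = n i) ∧ Ω = ⋃ i, orbit H (y i) := by
  classical
  have hf : ∀ i, (orbit H (y i)).Finite := fun i => hΩ.subset (hsub i)
  have hU : (⋃ i, orbit H (y i)).ncard = ∑ i, (orbit H (y i)).ncard := by
    have : (⋃ i, orbit H (y i)) = ((Finset.univ.biUnion fun i => (hf i).toFinset : Finset X) : Set X) := by
      ext z; simp
    rw [this, Set.ncard_coe_finset, Finset.card_biUnion]
    · exact Finset.sum_congr rfl fun i _ => (Set.ncard_eq_toFinset_card _ (hf i)).symm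
    · intro i _ j _ hij
      rw [Function.onFun, Finset.disjoint_left]
      intro z hi hj
      rw [Set.Finite.mem_toFinset] at hi hj
      apply hij
      apply hdisj
      rw [← orbit_eq_iff.2 hi, orbit_eq_iff.2 hj]
      exact mem_orbit_self _
  have hle : (⋃ i, orbit H (y i)).ncard ≤ Ω.ncard :=
    Set.ncard_le_ncard (Set.iUnion_subset hsub) hΩ
  have hs : ∑ i, n i = ∑ i, (orbit H (y i)).ncard :=
    le_antisymm (Finset.sum_le_sum fun i _ => hn i) (by omega)
  refine ⟨fun i => ((Finset.sum_eq_sum_iff_of_le fun i _ => hn i).1 hs i (Finset.mem_univ i)).symm,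
    (Set.eq_of_subset_of_ncard_le (Set.iUnion_subset hsub) (by omega) hΩ).symm⟩

end CL.M24S
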