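import Cfsg.Agent.Base
import Cfsg.Agent.M24S.Prim

/-! Group-theoretic tools for the structure of stabilisers: homomorphisms from graphs, transport
of orbits along conjugation, maximality from suborbits, fixed points of `p`-elements. -/

set_option autoImplicit false

namespace CL.M24S
open MulAction

/-- A subgroup of `H × Q` that is onto `Q`, meets `Q` trivially and is large enough is the graph
of a surjective homomorphism. -/
theorem exists_hom_of_graph {H Q : Type*} [Group H] [Group Q] [Finite H] [Finite Q]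
    (Γ : Subgroup (H × Q)) (h1 : ∀ q, ((1 : H), q) ∈ Γ → q = 1) (h2 : ∀ q, ∃ h, (h, q) ∈ Γ)
    (N : Subgroup H) (hN : ∀ n ∈ N, (n, (1 : Q)) ∈ Γ)
    (hcard : Nat.card H ≤ Nat.card N * Nat.card Q) :
    ∃ φ : H →* Q, Function.Surjective φ ∧ φ.ker = N ∧ ∀ h, (h, φ h) ∈ Γ := by
  let p1 : Γ →* H := (MonoidHom.fst H Q).comp Γ.subtype
  let p2 : Γ →* Q := (MonoidHom.snd H Q).comp Γ.subtype
  have i1 : Function.Injective p1 := by
    rw [injective_iff_map_eq_one]
    rintro ⟨⟨a, b⟩, hab⟩ ha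
    change a = 1 at ha
    subst ha
    exact Subtype.ext (Prod.ext rfl (h1 b hab))
  have s2 : Function.Surjective p2 := fun q => by
    obtain ⟨h, hh⟩ := h2 q
    exact ⟨⟨(h, q), hh⟩, rfl⟩
  have c1 : Nat.card N ≤ Nat.card p2.ker :=
    Nat.card_le_card_of_injective (fun n => ⟨⟨(n.1, 1), hN n.1 n.2⟩, rfl⟩)
      fun a b hab => Subtype.ext (congrArg (fun z : p2.ker => z.1.1.1) hab)
  have c2 : Nat.card p2.ker * Nat.card Q = Nat.card Γ := by
    rw [← Subgroup.card_mul_index p2.ker, Subgroup.index_ker, MonoidHom.range_eq_top.2 s2,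
      Subgroup.card_top]
  have b1 : Function.Bijective p1 :=
    i1.bijective_of_nat_card_le (hcard.trans (c2 ▸ Nat.mul_le_mul_right _ c1))
  let e := MulEquiv.ofBijective p1 b1
  have hg : ∀ h, (h, p2 (e.symm h)) ∈ Γ := fun h => by
    have : ((e.symm h : Γ) : H × Q) = (h, p2 (e.symm h)) :=
      Prod.ext (e.apply_symm_apply h) rfl
    exact this ▸ (e.symm h).2
  have s3 : Function.Surjective (p2.comp e.symm.toMonoidHom) := s2.comp e.symm.surjective
  refine ⟨p2.comp e.symm.toMonoidHom, s3, ?_, hg⟩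
  symm
  apply Subgroup.eq_of_le_of_card_ge
  · intro n hn
    have h3 := Γ.mul_mem (Γ.inv_mem (hN n hn)) (hg n)
    rw [Prod.inv_mk, Prod.mk_mul_mk, inv_mul_cancel, inv_one, one_mul] at h3
    exact h1 _ h3
  · have c3 := Subgroup.card_mul_index (p2.comp e.symm.toMonoidHom).ker
    rw [Subgroup.index_ker, MonoidHom.range_eq_top.2 s3, Subgroup.card_top] at c3
    exact Nat.le_of_mul_le_mul_right (c3 ▸ hcard) Nat.card_pos

/-- the version with trivial kernel -/
theorem nonempty_equiv_of_graph {H Q : Type*} [Group H] [Group Q] [Finite H] [Finite Q]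
    (Γ : Subgroup (H × Q)) (h1 : ∀ q, ((1 : H), q) ∈ Γ → q = 1) (h2 : ∀ q, ∃ h, (h, q) ∈ Γ)
    (hcard : Nat.card H ≤ Nat.card Q) : Nonempty (H ≃* Q) := by
  obtain ⟨φ, hs, hk, -⟩ := exists_hom_of_graph Γ h1 h2 ⊥
    (fun n hn => by rw [Subgroup.mem_bot.1 hn]; exact Γ.one_mem) (by simpa using hcard)
  exact ⟨MulEquiv.ofBijective φ ⟨(MonoidHom.ker_eq_bot_iff φ).1 hk, hs⟩⟩

/-- pairs acting compatibly on a family `y` -/
def compat (H Q : Type*) {A Y : Type*} [Group H] [Group Q] [MulAction H Y] [MulAction Q A]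
    (y : A → Y) : Subgroup (H × Q) where
  carrier := {p | ∀ a, p.1 • y a = y (p.2 • a)}
  one_mem' := fun a => by simp
  mul_mem' := fun {p q} hp hq a => by
    rw [Prod.fst_mul, Prod.snd_mul, mul_smul, mul_smul, hq, hp]
  inv_mem' := fun {p} hp a => by
    rw [Prod.fst_inv, Prod.snd_inv, inv_smul_eq_iff, hp, smul_inv_smul]

theorem mem_compat {H Q A Y : Type*} [Group H] [Group Q] [MulAction H Y] [MulAction Q A]
    {y : A → Y} {h : H} {q : Q} : (h, q) ∈ compat H Q y ↔ ∀ a, h • y a = y (q • a) := Iff.rfl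

theorem compat_one {H Q A Y : Type*} [Group H] [Group Q] [MulAction H Y] [MulAction Q A]
    [FaithfulSMul Q A] {y : A → Y} (hy : Function.Injective y) (q : Q)
    (h : ((1 : H), q) ∈ compat H Q y) : q = 1 :=
  eq_of_smul_eq_smul (α := A) fun a => hy (by rw [← h a, one_smul, one_smul])

/-- pairs compatible with a family `y` of group elements permuted by conjugation -/
def compatC {G : Type*} [Group G] (H : Subgroup G) (Q : Type*) {A : Type*} [Group Q]
    [MulAction Q A] (y : A → G) : Subgroup (H × Q) where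
  carrier := {p | ∀ a, (p.1 : G) * y a = y (p.2 • a) * p.1}
  one_mem' := fun a => by simp
  mul_mem' := fun {p q} hp hq a => by
    rw [Prod.fst_mul, Prod.snd_mul, mul_smul, Subgroup.coe_mul, mul_assoc, hq, ← mul_assoc, hp,
      mul_assoc]
  inv_mem' := fun {p} hp a => by
    have := hp (p.2⁻¹ • a)
    rw [smul_inv_smul] at this
    rw [Prod.fst_inv, Prod.snd_inv, Subgroup.coe_inv, inv_mul_eq_iff_eq_mul, ← mul_assoc, this,
      mul_inv_cancel_right]

theorem mem_compatC {G : Type*} [Group G] {H : Subgroup G} {Q A : Type*} [Group Q]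
    [MulAction Q A] {y : A → G} {h : H} {q : Q} :
    (h, q) ∈ compatC H Q y ↔ ∀ a, (h : G) * y a = y (q • a) * h := Iff.rfl

theorem compatC_one {G : Type*} [Group G] {H : Subgroup G} {Q A : Type*} [Group Q]
    [MulAction Q A] [FaithfulSMul Q A] {y : A → G} (hy : Function.Injective y) (q : Q)
    (h : ((1 : H), q) ∈ compatC H Q y) : q = 1 :=
  eq_of_smul_eq_smul (α := A) fun a => hy (by
    have := h a
    simp only [Subgroup.coe_one, one_mul, mul_one] at this
    rw [← this, one_smul])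

/-- lifting all permutations from lifts of the adjacent transpositions -/
theorem forall_perm_of_adjacent {H : Type*} [Group H] {n : ℕ}
    (Γ : Subgroup (H × Equiv.Perm (Fin (n + 1))))
    (h : ∀ i : Fin n, ∃ a, (a, Equiv.swap i.castSucc i.succ) ∈ Γ) (q : Equiv.Perm (Fin (n + 1))) :
    ∃ a, (a, q) ∈ Γ := by
  have : q ∈ Submonoid.closure (Set.range fun i : Fin n => Equiv.swap i.castSucc i.succ) := by
    rw [Equiv.Perm.mclosure_swap_castSucc_succ]; trivial
  induction this using Submonoid.closure_induction with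
  | mem x hx => obtain ⟨i, rfl⟩ := hx; exact h i
  | one => exact ⟨1, Γ.one_mem⟩
  | mul x y _ _ hx hy =>
    obtain ⟨a, ha⟩ := hx
    obtain ⟨b, hb⟩ := hy
    exact ⟨a * b, Γ.mul_mem ha hb⟩

/-- a multiplicative property of invertible matrices from diagonal matrices and transvections -/
theorem forall_GL {n F : Type*} [Fintype n] [DecidableEq n] [Field F]
    (P : Matrix n n F → Prop) (hmul : ∀ A B, P A → P B → P (A * B))
    (hd : ∀ D : n → F, (∀ i, D i ≠ 0) → P (Matrix.diagonal D))
    (ht : ∀ i j, i ≠ j → ∀ c, P (Matrix.transvection i j c)) (g : GL n F) : P g :=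
  Matrix.diagonal_transvection_induction_of_det_ne_zero P g (Matrix.GeneralLinearGroup.det_ne_zero g)
    (fun D hD => hd D fun i => by
      rw [Matrix.det_diagonal] at hD
      exact Finset.prod_ne_zero_iff.1 hD i (Finset.mem_univ i))
    (fun t => ht t.i t.j t.hij t.c) fun A B _ _ => hmul A B

theorem faithfulSMul_GL (n F : Type*) [Fintype n] [DecidableEq n] [CommRing F] :
    FaithfulSMul (GL n F) (n → F) :=
  ⟨fun h => Units.ext (Matrix.ext_iff_mulVec.2 h)⟩

variable {G X : Type*} [Group G] [MulAction G X]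

/-- orbits of conjugate subgroups -/
theorem orbit_conj (g : G) (H H' : Subgroup G) (hH : ∀ h, h ∈ H ↔ g * h * g⁻¹ ∈ H') (y : X) :
    orbit H' (g • y) = (fun z => g • z) '' orbit H y := by
  ext z
  constructor
  · rintro ⟨h, rfl⟩
    refine ⟨(g⁻¹ * h * g) • y, ⟨⟨_, (hH _).2 (by simp [mul_assoc])⟩, rfl⟩, ?_⟩
    simp only [mul_smul, smul_inv_smul]; rfl
  · rintro ⟨_, ⟨h, rfl⟩, rfl⟩
    refine ⟨⟨_, (hH h).1 h.2⟩, ?_⟩
    simp only [Subgroup.smul_def, mul_smul, inv_smul_smul]

theorem ncard_orbit_conj (g : G) (H H' : Subgroup G) (hH : ∀ h, h ∈ H ↔ g * h * g⁻¹ ∈ H')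
    (y : X) : (orbit H' (g • y)).ncard = (orbit H y).ncard := by
  rw [orbit_conj g H H' hH, Set.ncard_image_of_injective _ (MulAction.injective g)]

theorem mem_stabilizer_conj (g : G) (x : X) (h : G) :
    h ∈ stabilizer G x ↔ g * h * g⁻¹ ∈ stabilizer G (g • x) := by
  simp only [mem_stabilizer_iff, mul_smul, inv_smul_smul, smul_left_cancel_iff]

theorem isCoatom_conj (g : G) (H H' : Subgroup G) (hH : ∀ h, h ∈ H ↔ g * h * g⁻¹ ∈ H')
    (h : IsCoatom H) : IsCoatom H' := by
  have : H' = H.map (MulAut.conj g).toMonoidHom := by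
    ext x
    rw [Subgroup.mem_map_equiv, hH]
    simp [mul_assoc]
  rw [this]
  exact (OrderIso.isCoatom_iff (MulAut.conj g).mapSubgroup H).2 h

theorem ncard_biUnion_orbits {H : Type*} [Group H] [MulAction H X] {ι : Type*} (y : ι → X)
    (hf : ∀ i, (orbit H (y i)).Finite) (hdisj : ∀ i j, y j ∈ orbit H (y i) → i = j)
    (I : Finset ι) : (⋃ i ∈ I, orbit H (y i)).ncard = ∑ i ∈ I, (orbit H (y i)).ncard := by
  classical
  have : (⋃ i ∈ I, orbit H (y i)) = ((I.biUnion fun i => (hf i).toFinset : Finset X) : Set X) := by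
    ext z; simp
  rw [this, Set.ncard_coe_finset, Finset.card_biUnion]
  · exact Finset.sum_congr rfl fun i _ => (Set.ncard_eq_toFinset_card _ (hf i)).symm
  · intro i _ j _ hij
    rw [Function.onFun, Finset.disjoint_left]
    intro z hi hj
    rw [Set.Finite.mem_toFinset] at hi hj
    apply hij
    apply hdisj
    rw [← orbit_eq_iff.2 hi, orbit_eq_iff.2 hj]
    exact mem_orbit_self _

/-- Maximality of a point stabiliser from the list of its orbits. -/
theorem isCoatom_of_orbits [Finite G] (x : X) {m : ℕ} (y : Fin m → X) (n : Fin m → ℕ)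
    (hcov : orbit G x = ⋃ i, orbit (stabilizer G x) (y i))
    (hn : ∀ i, (orbit (stabilizer G x) (y i)).ncard = n i)
    (hdisj : ∀ i j, y j ∈ orbit (stabilizer G x) (y i) → i = j) (i0 : Fin m) (h0 : y i0 = x)
    (hne : ∃ g : G, g • x ≠ x)
    (harith : ∀ I : Finset (Fin m), i0 ∈ I → (∑ i ∈ I, n i) ∣ ∑ i, n i →
      I = {i0} ∨ ∑ i ∈ I, n i = ∑ i, n i) : IsCoatom (stabilizer G x) := by
  classical
  refine ⟨?_, fun K hK => ?_⟩
  · intro h
    obtain ⟨g, hg⟩ := hne
    exact hg (mem_stabilizer_iff.1 (h ▸ Subgroup.mem_top g))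
  have hf : ∀ i, (orbit (stabilizer G x) (y i)).Finite := fun i => Set.finite_range _
  set I := Finset.univ.filter fun i => y i ∈ orbit K x with hI
  have hO : orbit K x = ⋃ i ∈ I, orbit (stabilizer G x) (y i) := by
    ext z
    simp only [Set.mem_iUnion, hI, Finset.mem_filter, Finset.mem_univ, true_and, exists_prop]
    constructor
    · intro hz
      obtain ⟨i, h, rfl⟩ := Set.mem_iUnion.1 (hcov ▸ orbit_subgroup_subset K x hz)
      refine ⟨i, ?_, h, rfl⟩
      obtain ⟨k, hk⟩ := hz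
      refine ⟨⟨h, hK.le h.2⟩⁻¹ * k, ?_⟩
      simp only [mul_smul, hk, inv_smul_eq_iff]; rfl
    · rintro ⟨i, ⟨k, hk⟩, h, rfl⟩
      refine ⟨⟨h, hK.le h.2⟩ * k, ?_⟩
      simp only [mul_smul, hk]; rfl
  have h1 : (orbit K x).ncard = ∑ i ∈ I, n i := by
    rw [hO, ncard_biUnion_orbits y hf hdisj]; exact Finset.sum_congr rfl fun i _ => hn i
  have h2 : (orbit G x).ncard = ∑ i, n i := by
    have := ncard_biUnion_orbits y hf hdisj Finset.univ
    simp only [Finset.mem_univ, Set.iUnion_true] at this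
    rw [hcov, this]; exact Finset.sum_congr rfl fun i _ => hn i
  rcases harith I (Finset.mem_filter.2 ⟨Finset.mem_univ _, by rw [h0]; exact mem_orbit_self x⟩)
    (h1 ▸ h2 ▸ ncard_orbit_subgroup_dvd x K hK.le) with h | h
  · exfalso
    apply hK.not_ge
    intro k hk
    have h5 : k • x ∈ orbit K x := ⟨⟨k, hk⟩, rfl⟩
    rw [hO, h] at h5
    simp only [Finset.mem_singleton, Set.iUnion_iUnion_eq_left, h0] at h5
    obtain ⟨g, hg⟩ := h5
    exact hg.symm.trans g.2
  · apply eq_top_of_orbit_eq x K hK.le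
    exact (Set.eq_of_subset_of_ncard_le (orbit_subgroup_subset K x) (by rw [h1, h2, h])
      (Set.finite_range _)).ge

/-- A `p`-subgroup is conjugate into every subgroup of index prime to `p`. -/
theorem exists_conj_le_of_pGroup {p : ℕ} [Fact p.Prime] (P H : Subgroup G) (hP : IsPGroup p P)
    (hH : ¬ p ∣ H.index) : ∃ g : G, ∀ x ∈ P, g * x * g⁻¹ ∈ H := by
  obtain ⟨q, hq⟩ := hP.nonempty_fixed_point_of_prime_not_dvd_card (G ⧸ H) hH
  obtain ⟨g, rfl⟩ := QuotientGroup.mk_surjective q
  refine ⟨g⁻¹, fun x hx => ?_⟩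
  have := hq ⟨x⁻¹, P.inv_mem hx⟩
  change ((x⁻¹ * g : G) : G ⧸ H) = g at this
  rw [QuotientGroup.eq] at this
  simpa [mul_assoc] using this

/-- The length of an orbit modulo `p` is the number of points fixed by an element of order `p`. -/
theorem ncard_orbit_modEq [Finite G] {p : ℕ} (hp : p.Prime) (H : Subgroup G) {t : G} (ht : t ∈ H)
    (htp : t ^ p = 1) (x : X) :
    (orbit H x).ncard ≡ {y | y ∈ orbit H x ∧ t • y = y}.ncard [MOD p] := by
  have : Fact p.Prime := ⟨hp⟩
  have hP : IsPGroup p (Subgroup.zpowers (⟨t, ht⟩ : H)) := by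
    rintro ⟨_, k, rfl⟩
    refine ⟨1, Subtype.ext (Subtype.ext ?_)⟩
    simp only [pow_one, SubgroupClass.coe_pow, SubgroupClass.coe_zpow, OneMemClass.coe_one]
    rw [← zpow_natCast, ← zpow_mul, mul_comm, zpow_mul, zpow_natCast, htp, one_zpow]
  have : Finite (orbit H x) := Set.finite_range _
  have h := hP.card_modEq_card_fixedPoints (orbit H x)
  rw [Nat.card_coe_set_eq, Nat.card_coe_set_eq] at h
  convert h using 1
  rw [← Set.ncard_image_of_injective _ Subtype.val_injective]
  congr 1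
  ext y
  constructor
  · rintro ⟨hy, hty⟩
    refine ⟨⟨y, hy⟩, ?_, rfl⟩
    have h1 : Subgroup.zpowers (⟨t, ht⟩ : H) ≤ stabilizer H (⟨y, hy⟩ : orbit H x) := by
      rw [Subgroup.zpowers_le, mem_stabilizer_iff]; exact Subtype.ext hty
    exact fun g => h1 g.2
  · rintro ⟨y, hy, rfl⟩
    exact ⟨y.2, congrArg Subtype.val (hy ⟨_, Subgroup.mem_zpowers _⟩)⟩

theorem ncard_orbit_mul_card [Finite G] (H : Subgroup G) (x : X) :
    (orbit H x).ncard * Nat.card (H ⊓ stabilizer G x : Subgroup G) = Nat.card H := by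
  have h3 : stabilizer H x = (H ⊓ stabilizer G x).subgroupOf H := by
    ext g; simp only [Subgroup.mem_subgroupOf, Subgroup.mem_inf, g.2, true_and]; rfl
  rw [← index_stabilizer, h3, mul_comm,
    ← Nat.card_congr (Subgroup.subgroupOfEquivOfLe (inf_le_left (a := H))).toEquiv,
    Subgroup.card_mul_index]

/-- A subgroup fixing `x` has index at least the length of the orbit of `x`. -/
theorem ncard_orbit_dvd_index (H : Subgroup G) (x : X) (h : ∀ g ∈ H, g • x = x) :
    (orbit G x).ncard ∣ H.index := by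
  rw [← index_stabilizer]
  exact Subgroup.index_dvd_of_le h

theorem eq_stabilizer_of_index [Finite G] (H : Subgroup G) (x : X) (h : ∀ g ∈ H, g • x = x)
    (hi : H.index ≤ (orbit G x).ncard) : H = stabilizer G x := by
  apply Subgroup.eq_of_le_of_card_ge h
  have h1 := H.card_mul_index
  have h2 := (stabilizer G x).card_mul_index
  rw [index_stabilizer] at h2
  by_contra h3
  push Not at h3
  have h4 : 0 < H.index := Nat.pos_of_ne_zero H.index_ne_zero_of_finite
  nlinarith

/-- Elements of prime order exceeding the relative index lie in the subgroup. -/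
theorem mem_of_pow_eq_one {J K : Subgroup G} [Finite G] {q : ℕ} (hq : q.Prime)
    (hi : Nat.card K < q * Nat.card J) (hJK : J ≤ K) {c : G} (hc : c ∈ K) (hcq : c ^ q = 1) :
    c ∈ J := by
  have : Fact q.Prime := ⟨hq⟩
  have h1 : (J.subgroupOf K).index < q := by
    have h2 := (J.subgroupOf K).card_mul_index
    rw [Nat.card_congr (Subgroup.subgroupOfEquivOfLe hJK).toEquiv] at h2
    rw [← h2, mul_comm q] at hi
    exact Nat.lt_of_mul_lt_mul_left hi
  have h4 : orderOf (toPermHom K (K ⧸ J.subgroupOf K) ⟨c, hc⟩) ∣ q := by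
    apply orderOf_dvd_of_pow_eq_one
    rw [← map_pow, show (⟨c, hc⟩ : K) ^ q = 1 from Subtype.ext hcq, map_one]
  rcases (Nat.dvd_prime hq).1 h4 with h5 | h5
  · have h6 : (⟨c, hc⟩ : K) ∈ (J.subgroupOf K).normalCore := by
      rw [Subgroup.normalCore_eq_ker]; exact orderOf_eq_one_iff.1 h5
    exact (J.subgroupOf K).normalCore_le h6
  · have h6 := orderOf_dvd_natCard (toPermHom K (K ⧸ J.subgroupOf K) ⟨c, hc⟩)
    rw [h5, Nat.card_perm, hq.dvd_factorial] at h6
    exact absurd h6 (not_le.2 h1)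

end CL.M24S
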