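import Cfsg.Agent.Base
import Cfsg.Agent.Spor.GolayPerm
import Cfsg.Agent.Spor.Chain
import Cfsg.Agent.M24S.BFS
import Cfsg.Agent.Auto.ACL_M24S_tramp_494227

/-! Orbits of `M24` on configurations (lists of subsets of the 24 points): certified extension
steps, rank statements, class counts and stabiliser orders. -/

set_option autoImplicit false

namespace CL.M24S
open Cfsg Finset CL.Golay
open scoped Pointwise

/-- a list of point sets moved by a permutation -/
def smulL (g : Equiv.Perm GolayPt) (l : List (Finset GolayPt)) : List (Finset GolayPt) :=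
  l.map fun s => g • s

@[simp] theorem smulL_nil (g : Equiv.Perm GolayPt) : smulL g [] = [] := rfl

@[simp] theorem smulL_cons (g : Equiv.Perm GolayPt) (s : Finset GolayPt)
    (l : List (Finset GolayPt)) : smulL g (s :: l) = g • s :: smulL g l := rfl

theorem smulL_mul (g h : Equiv.Perm GolayPt) (l : List (Finset GolayPt)) :
    smulL (g * h) l = smulL g (smulL h l) := by
  simp [smulL, mul_smul]

theorem smulL_one (l : List (Finset GolayPt)) : smulL 1 l = l := by simp [smulL]

theorem smulL_eq_self_iff {g : Equiv.Perm GolayPt} {l : List (Finset GolayPt)} :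
    smulL g l = l ↔ ∀ s ∈ l, g • s = s := by
  induction l with
  | nil => simp
  | cons a l ih => simp [ih]

/-- two configurations lie in one `M24`-orbit -/
def Orb (l l' : List (Finset GolayPt)) : Prop := ∃ g ∈ M24, smulL g l = l'

theorem Orb.refl (l : List (Finset GolayPt)) : Orb l l := ⟨1, one_mem _, smulL_one l⟩

theorem Orb.symm {l l' : List (Finset GolayPt)} (h : Orb l l') : Orb l' l := by
  obtain ⟨g, hg, rfl⟩ := h
  exact ⟨g⁻¹, inv_mem hg, by rw [← smulL_mul, inv_mul_cancel, smulL_one]⟩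

theorem Orb.trans {l l' l'' : List (Finset GolayPt)} (h : Orb l l') (h' : Orb l' l'') :
    Orb l l'' := by
  obtain ⟨g, hg, rfl⟩ := h
  obtain ⟨g', hg', rfl⟩ := h'
  exact ⟨g' * g, mul_mem hg' hg, smulL_mul _ _ _⟩

theorem Orb.nil : Orb [] (([] : List ℕ).map ofMask) := Orb.refl _

theorem Orb.tail {x y : Finset GolayPt} {l l' : List (Finset GolayPt)} (h : Orb (x :: l) (y :: l')) :
    Orb l l' := by
  obtain ⟨g, hg, h⟩ := h
  exact ⟨g, hg, (List.cons.inj h).2⟩

theorem Orb.exists_fix {x y : Finset GolayPt} {l : List (Finset GolayPt)}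
    (h : Orb (x :: l) (y :: l)) : ∃ g ∈ M24, (∀ s ∈ l, g • s = s) ∧ g • x = y := by
  obtain ⟨g, hg, h⟩ := h
  exact ⟨g, hg, smulL_eq_self_iff.1 (List.cons.inj h).2, (List.cons.inj h).1⟩

theorem smul_singleton_eq_iff {g : Equiv.Perm GolayPt} {p q : GolayPt} :
    g • ({p} : Finset GolayPt) = {q} ↔ g p = q := by
  rw [smul_singleton', Finset.singleton_inj]

/-- the packed permutations of `gens` lie in `M24` and fix the masks of `l0` -/
noncomputable def goodGens (l0 gens : List ℕ) : Bool :=
  allL (fun g => Bool.rec false (allL (fun m => Nat.beq (act g m) m) l0) (isM24 g)) gens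

theorem goodGens_spec {l0 gens : List ℕ} (h : goodGens l0 gens = true) :
    ∀ c ∈ gens, Rep (toPerm c) c ∧ toPerm c ∈ Chain.fix M24 (l0.map ofMask) := by
  intro c hc
  have h1 := allL_iff.1 h c hc
  cases h2 : isM24 c
  · rw [h2] at h1; exact absurd h1 (by simp)
  · rw [h2] at h1
    refine ⟨rep_of_isM24 h2, toPerm_mem_M24 h2, ?_⟩
    intro s hs
    obtain ⟨m, hm, rfl⟩ := List.mem_map.1 hs
    have := Nat.eq_of_beq_eq_true (allL_iff.1 h1 m hm)
    rw [(rep_of_isM24 h2).smul_ofMask, this]

/-- the invariant carried along a search on masks -/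
theorem reach_step {H : Subgroup (Equiv.Perm GolayPt)} {gens : List ℕ}
    (hg : ∀ c ∈ gens, Rep (toPerm c) c ∧ toPerm c ∈ H) (x0 : ℕ) :
    ∀ c ∈ gens, ∀ x, (∃ σ ∈ H, σ • ofMask x0 = ofMask x) →
      ∃ σ ∈ H, σ • ofMask x0 = ofMask (act c x) := by
  rintro c hc x ⟨σ, hσ, h⟩
  refine ⟨toPerm c * σ, mul_mem (hg c hc).2 hσ, ?_⟩
  rw [mul_smul, h, (hg c hc).1.smul_ofMask]

/-- every mask of `LU` with the value of `r` under `f` is reached from `r`, for `r` in `reps` -/
noncomputable def checkReps (LU : List ℕ) (f : ℕ → ℕ) (gens reps : List ℕ) (fuel : ℕ) : Bool :=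
  allL (fun r => (fun t => force (f r) fun fr =>
    allL (fun w => force w fun w => Bool.rec true (BT.mem w t) (Nat.beq (f w) fr)) LU)
      (bfs act gens fuel r)) reps

theorem checkReps_spec {H : Subgroup (Equiv.Perm GolayPt)} {LU : List ℕ} {f : ℕ → ℕ}
    {gens reps : List ℕ} {fuel : ℕ} (hg : ∀ c ∈ gens, Rep (toPerm c) c ∧ toPerm c ∈ H)
    (h : checkReps LU f gens reps fuel = true) {r : ℕ} (hr : r ∈ reps) {w : ℕ} (hw : w ∈ LU)
    (hwr : f w = f r) : ∃ σ ∈ H, σ • ofMask r = ofMask w := by
  have h1 := allL_iff.1 h r hr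
  simp only [force_eq] at h1
  have h2 := allL_iff.1 h1 w hw
  rw [hwr, Nat.beq_refl] at h2
  exact bfs_sound (P := fun x => ∃ σ ∈ H, σ • ofMask r = ofMask x) (reach_step hg r)
    ⟨1, one_mem _, one_smul _ _⟩ (BT.in_of_mem h2)

/-- every mask of `LU` whose value passes `ok` has the value of some representative -/
noncomputable def allClasses (LU : List ℕ) (f : ℕ → ℕ) (ok : ℕ → Bool) (reps : List ℕ) : Bool :=
  allL (fun w => force w fun w => force (f w) fun v =>
    Bool.rec true (anyL (fun r => Nat.beq v (f r)) reps) (ok v)) LU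

theorem allClasses_spec {LU : List ℕ} {f : ℕ → ℕ} {ok : ℕ → Bool} {reps : List ℕ}
    (h : allClasses LU f ok reps = true) {w : ℕ} (hw : w ∈ LU) (hok : ok (f w) = true) :
    ∃ r ∈ reps, f w = f r := by
  have h1 := allL_iff.1 h w hw
  simp only [force_eq, hok] at h1
  obtain ⟨r, hr, h2⟩ := anyL_iff.1 h1
  exact ⟨r, hr, Nat.eq_of_beq_eq_true h2⟩

/-- A family of point sets invariant under `M24`, listed by masks. -/
structure Univ (U : Set (Finset GolayPt)) (LU : List ℕ) : Prop where
  inv : ∀ g ∈ M24, ∀ s ∈ U, g • s ∈ U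
  mem_iff : ∀ w, w ∈ LU ↔ w < 2 ^ 24 ∧ ofMask w ∈ U
  nodup : LU.Nodup

theorem Univ.toMask_mem {U : Set (Finset GolayPt)} {LU : List ℕ} (h : Univ U LU)
    {s : Finset GolayPt} (hs : s ∈ U) : toMask s ∈ LU :=
  (h.mem_iff _).2 ⟨toMask_lt s, by rwa [ofMask_toMask]⟩

theorem Univ.ncard_eq {U : Set (Finset GolayPt)} {LU : List ℕ} (h : Univ U LU)
    {S : Set (Finset GolayPt)} {f : ℕ → Bool}
    (hS : ∀ w < 2 ^ 24, ofMask w ∈ S ↔ ofMask w ∈ U ∧ f w = true) :
    S.ncard = cntL (fun w => force w f) LU := by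
  classical
  have h1 : S = ((LU.filter fun w => force w f).map ofMask).toFinset := by
    ext s
    simp only [force_eq, List.coe_toFinset, List.mem_map, List.mem_filter, Set.mem_ofPred_eq]
    constructor
    · intro hs
      have := (hS _ (toMask_lt s)).1 (by rwa [ofMask_toMask])
      exact ⟨toMask s, ⟨(h.mem_iff _).2 ⟨toMask_lt s, this.1⟩, this.2⟩, ofMask_toMask s⟩
    · rintro ⟨w, ⟨hw, hf⟩, rfl⟩
      have := (h.mem_iff w).1 hw
      exact (hS w this.1).2 ⟨this.2, hf⟩
  rw [h1, Set.ncard_coe_finset, List.toFinset_card_of_nodup, List.length_map, cntL_eq]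
  apply List.Nodup.map_on _ (h.nodup.filter _)
  intro a ha b hb hab
  exact (ofMask_inj ((h.mem_iff a).1 (List.mem_filter.1 ha).1).1
    ((h.mem_iff b).1 (List.mem_filter.1 hb).1).1).1 hab

theorem Univ.forall {U : Set (Finset GolayPt)} {LU : List ℕ} (h : Univ U LU) {f : ℕ → Bool}
    (hf : allL (fun w => force w f) LU = true) {s : Finset GolayPt} (hs : s ∈ U) :
    f (toMask s) = true :=
  allL_iff.1 hf _ (h.toMask_mem hs)

/-- An `M24`-invariant numerical function of a set relative to a configuration, together with its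
mask version at the standard configuration `l0`. -/
structure Inv (F : List (Finset GolayPt) → Finset GolayPt → ℕ) (l0 : List ℕ) (f : ℕ → ℕ) :
    Prop where
  inv : ∀ g ∈ M24, ∀ l x, F (smulL g l) (g • x) = F l x
  eq : ∀ w < 2 ^ 24, F (l0.map ofMask) (ofMask w) = f w

section step
variable {U : Set (Finset GolayPt)} {LU : List ℕ} {F : List (Finset GolayPt) → Finset GolayPt → ℕ}
  {l0 : List ℕ} {f : ℕ → ℕ} {gens reps : List ℕ} {fuel : ℕ}

/-- Extension step: a member of `U` with the invariant of the representative `r` can be moved to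
`r` together with the configuration. -/
theorem step (hU : Univ U LU) (hF : Inv F l0 f) (hg : goodGens l0 gens = true)
    (hc : checkReps LU f gens reps fuel = true) {l : List (Finset GolayPt)}
    (hl : Orb l (l0.map ofMask)) {x : Finset GolayPt} (hx : x ∈ U) {r : ℕ} (hr : r ∈ reps)
    (hxr : F l x = f r) : Orb (x :: l) ((r :: l0).map ofMask) := by
  obtain ⟨g, hgM, hgl⟩ := hl
  have h1 : f (toMask (g • x)) = f r := by
    rw [← hF.eq _ (toMask_lt _), ofMask_toMask, ← hgl, hF.inv g hgM, hxr]
  obtain ⟨σ, hσ, h2⟩ := checkReps_spec (goodGens_spec hg) hc hr (hU.toMask_mem (hU.inv g hgM x hx)) h1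
  rw [ofMask_toMask] at h2
  refine Orb.trans ⟨g, hgM, rfl⟩ (Orb.symm ⟨σ, hσ.1, ?_⟩)
  rw [List.map_cons, smulL_cons, smulL_cons, h2, hgl, smulL_eq_self_iff.2 hσ.2]

/-- Rank statement: members of `U` with equal admissible invariant are conjugate under the
stabiliser of the configuration. -/
theorem rank (hU : Univ U LU) (hF : Inv F l0 f) (hg : goodGens l0 gens = true)
    (hc : checkReps LU f gens reps fuel = true) {ok : ℕ → Bool}
    (ha : allClasses LU f ok reps = true) {l : List (Finset GolayPt)}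
    (hl : Orb l (l0.map ofMask)) {x y : Finset GolayPt} (hx : x ∈ U) (hy : y ∈ U)
    (hok : ok (F l x) = true) (hxy : F l x = F l y) :
    ∃ g ∈ M24, (∀ s ∈ l, g • s = s) ∧ g • x = y := by
  obtain ⟨r, hr, hxr⟩ : ∃ r ∈ reps, F l x = f r := by
    obtain ⟨g, hgM, hgl⟩ := hl
    have h1 : f (toMask (g • x)) = F l x := by
      rw [← hF.eq _ (toMask_lt _), ofMask_toMask, ← hgl, hF.inv g hgM]
    obtain ⟨r, hr, h⟩ := allClasses_spec ha (hU.toMask_mem (hU.inv g hgM x hx)) (h1 ▸ hok)
    exact ⟨r, hr, h1 ▸ h⟩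
  exact ((step hU hF hg hc hl hx hr hxr).trans
    (step hU hF hg hc hl hy hr (hxy ▸ hxr)).symm).exists_fix

/-- Class counts. -/
theorem count (hU : Univ U LU) (hF : Inv F l0 f) {l : List (Finset GolayPt)}
    (hl : Orb l (l0.map ofMask)) (P : ℕ → Bool) :
    {x | x ∈ U ∧ P (F l x) = true}.ncard = cntL (fun w => force w fun w => P (f w)) LU := by
  obtain ⟨g, hgM, hgl⟩ := hl
  have h1 : (fun x => g • x) '' {x | x ∈ U ∧ P (F l x) = true} =
      {x | x ∈ U ∧ P (F (l0.map ofMask) x) = true} := by
    ext y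
    constructor
    · rintro ⟨x, ⟨hx, hP⟩, rfl⟩
      exact ⟨hU.inv g hgM x hx, by rw [← hgl, hF.inv g hgM]; exact hP⟩
    · rintro ⟨hy, hP⟩
      refine ⟨g⁻¹ • y, ⟨hU.inv _ (inv_mem hgM) y hy, ?_⟩, smul_inv_smul g y⟩
      rw [← hF.inv g hgM, hgl, smul_inv_smul]; exact hP
  rw [← Set.ncard_image_of_injective _ (MulAction.injective g), h1]
  apply hU.ncard_eq
  intro w hw
  simp only [Set.mem_ofPred_eq, hF.eq w hw]

/-- All members of `U` have an invariant passing the test `P`. -/
theorem forall_class (hU : Univ U LU) (hF : Inv F l0 f) {l : List (Finset GolayPt)}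
    (hl : Orb l (l0.map ofMask)) {P : ℕ → Bool}
    (h : allL (fun w => force w fun w => P (f w)) LU = true) {x : Finset GolayPt} (hx : x ∈ U) :
    P (F l x) = true := by
  obtain ⟨g, hgM, hgl⟩ := hl
  have := hU.forall h (hU.inv g hgM x hx)
  rwa [← hF.eq _ (toMask_lt _), ofMask_toMask, ← hgl, hF.inv g hgM] at this

/-- Orbit-stabiliser along an extension step of the standard configuration. -/
theorem card_fix_step (hU : Univ U LU) (hF : Inv F l0 f) (hg : goodGens l0 gens = true)
    (hc : checkReps LU f gens reps fuel = true) {r : ℕ} (hr : r ∈ reps) (hrU : r ∈ LU) {n : ℕ}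
    (hn : cntL (fun w => force w fun w => Nat.beq (f w) (f r)) LU = n) :
    Nat.card (Chain.fix M24 (l0.map ofMask)) =
      n * Nat.card (Chain.fix M24 ((r :: l0).map ofMask)) := by
  have hr' := (hU.mem_iff r).1 hrU
  rw [List.map_cons, Chain.fix_cons, ← hn,
    ← count hU hF (Orb.refl _) (fun v => Nat.beq v (f r))]
  apply Chain.card_eq_ncard_mul
  · intro g hg'
    refine ⟨hU.inv g hg'.1 _ hr'.2, ?_⟩
    have := hF.inv g hg'.1 (l0.map ofMask) (ofMask r)
    rw [smulL_eq_self_iff.2 hg'.2] at this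
    rw [this, hF.eq r hr'.1, Nat.beq_refl]
  · rintro x ⟨hx, hP⟩
    obtain ⟨g, hg1, hg2, hg3⟩ :=
      (step hU hF hg hc (Orb.refl _) hx hr (Nat.eq_of_beq_eq_true hP)).symm.exists_fix
    exact ⟨g, ⟨hg1, hg2⟩, hg3⟩

end step

theorem Orb.card_fix {l l' : List (Finset GolayPt)} (h : Orb l l') :
    Nat.card (Chain.fix M24 l) = Nat.card (Chain.fix M24 l') := by
  obtain ⟨g, hg, h⟩ := h
  exact Nat.card_congr (Chain.fixEquiv hg l l' h).toEquiv

theorem Orb.fix_equiv {l l' : List (Finset GolayPt)} (h : Orb l l') :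
    Nonempty (Chain.fix M24 l ≃* Chain.fix M24 l') := by
  obtain ⟨g, hg, h⟩ := h
  exact ⟨Chain.fixEquiv hg l l' h⟩

/-! ### The intersection-number invariant -/

/-- intersection numbers with the members of a configuration, in base 32 -/
def sg : List (Finset GolayPt) → Finset GolayPt → ℕ
  | [], _ => 0
  | s :: l, x => (s ∩ x).card + 32 * sg l x

/-- mask version of `sg` -/
noncomputable def sgM (l0 : List ℕ) (w : ℕ) : ℕ :=
  List.rec 0 (fun m _ r => Nat.add (pop (Nat.land m w)) (Nat.mul 32 r)) l0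

theorem inv_sg (l0 : List ℕ) : Inv sg l0 (sgM l0) where
  inv := by
    intro g _ l x
    induction l with
    | nil => rfl
    | cons s l ih => rw [smulL_cons, sg, sg, ih, ← smul_inter', card_smul']
  eq := by
    intro w _
    induction l0 with
    | nil => rfl
    | cons m l ih =>
      rw [List.map_cons, sg, ih, ← ofMask_land, card_ofMask]; rfl

theorem card_singleton_inter (p : GolayPt) (x : Finset GolayPt) :
    ({p} ∩ x).card = if p ∈ x then 1 else 0 := by
  split_ifs with h
  · rw [Finset.singleton_inter_of_mem h, Finset.card_singleton]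
  · rw [Finset.singleton_inter_of_notMem h, Finset.card_empty]

theorem card_le_24 (s : Finset GolayPt) : s.card ≤ 24 := (card_le_univ s).trans (by simp)

/-! ### Standard families -/

/-- the code masks passing a test -/
noncomputable def codeL (f : ℕ → Bool) : List ℕ :=
  Nat.rec [] (fun m r => force (enc m) fun w => Bool.rec (tramp r) (w :: r) (f w)) 4096

theorem codeL_spec (f : ℕ → Bool) :
    (∀ w, w ∈ codeL f ↔ w < 2 ^ 24 ∧ ofMask w ∈ CSet ∧ f w = true) ∧ (codeL f).Nodup := by
  have key : ∀ n ≤ 4096, (∀ w, w ∈ (Nat.rec [] (fun m r => force (enc m) fun w =>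
      Bool.rec (tramp r) (w :: r) (f w)) n : List ℕ) ↔ ∃ m < n, w = enc m ∧ f w = true) ∧
      (Nat.rec [] (fun m r => force (enc m) fun w =>
      Bool.rec (tramp r) (w :: r) (f w)) n : List ℕ).Nodup := by
    intro n
    induction n with
    | zero => simp
    | succ n ih =>
      intro hn
      obtain ⟨h1, h2⟩ := ih (by omega)
      simp only [force_eq, tramp] at h1 h2 ⊢
      cases hf : f (enc n)
      · refine ⟨fun w => ?_, h2⟩
        rw [h1, Nat.exists_lt_succ_right]
        constructor
        · exact Or.inl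
        · rintro (h | ⟨rfl, h⟩)
          · exact h
          · rw [hf] at h; exact absurd h (by simp)
      · constructor
        · intro w
          show w ∈ enc n :: _ ↔ _
          rw [List.mem_cons, h1, Nat.exists_lt_succ_right]
          constructor
          · rintro (rfl | h)
            · exact Or.inr ⟨rfl, hf⟩
            · exact Or.inl h
          · rintro (h | ⟨rfl, _⟩)
            · exact Or.inr h
            · exact Or.inl rfl
        · show (enc n :: _).Nodup
          refine List.nodup_cons.2 ⟨fun h => ?_, h2⟩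
          obtain ⟨m, hm, h3, -⟩ := (h1 _).1 h
          have := (enc_inj (by omega) (by omega)).1 h3
          omega
  obtain ⟨h1, h2⟩ := key 4096 le_rfl
  refine ⟨fun w => (h1 w).trans ⟨?_, ?_⟩, h2⟩
  · rintro ⟨m, -, rfl, hf⟩
    exact ⟨enc_lt m, enc_mem_CSet m, hf⟩
  · rintro ⟨hw, hC, hf⟩
    obtain ⟨m, hm, h⟩ := mem_CSet_iff_enc.1 hC
    exact ⟨m, hm, (ofMask_inj hw (enc_lt m)).1 h, hf⟩

/-- the octad masks -/
noncomputable def octL : List ℕ := codeL fun w => Nat.beq (pop w) 8

/-- the dodecad masks -/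
noncomputable def dodL : List ℕ := codeL fun w => Nat.beq (pop w) 12

theorem univ_oct : Univ octads octL where
  inv := fun _ hg _ hs => smul_mem_octads hg hs
  mem_iff := fun w => by
    rw [octL, (codeL_spec _).1, mem_octads_iff, card_ofMask, Nat.beq_eq]
  nodup := (codeL_spec _).2

theorem univ_dod : Univ dodecads dodL where
  inv := fun _ hg _ hs => smul_mem_dodecads hg hs
  mem_iff := fun w => by
    rw [dodL, (codeL_spec _).1, mem_dodecads_iff, card_ofMask, Nat.beq_eq]
  nodup := (codeL_spec _).2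

/-- masks `acc + 2^i₁ + ⋯ + 2^iₖ` with `n > i₁ > ⋯ > iₖ`, in increasing order, before `rest` -/
noncomputable def subA (k : ℕ) : ℕ → ℕ → List ℕ → List ℕ :=
  Nat.rec (motive := fun _ => ℕ → ℕ → List ℕ → List ℕ) (fun _ acc rest => acc :: rest)
    (fun _ ih n acc rest => Nat.rec (motive := fun _ => List ℕ → List ℕ) (fun r => r)
      (fun i g r => g (ih i (Nat.add acc (Nat.shiftLeft 1 i)) r)) n rest) k

theorem mem_subA (k : ℕ) : ∀ (n acc : ℕ) (rest : List ℕ) (w : ℕ), w ∈ subA k n acc rest ↔
    w ∈ rest ∨ ∃ s : Finset ℕ, (∀ i ∈ s, i < n) ∧ s.card = k ∧ w = acc + ∑ i ∈ s, 2 ^ i := by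
  induction k with
  | zero =>
    intro n acc rest w
    show w ∈ acc :: rest ↔ _
    rw [List.mem_cons, or_comm]
    refine or_congr Iff.rfl ⟨fun h => ⟨∅, by simp, rfl, by simp [h]⟩, ?_⟩
    rintro ⟨s, -, hs, h⟩
    rw [card_eq_zero.1 hs] at h; simpa using h
  | succ k ih =>
    intro n acc
    induction n with
    | zero =>
      intro rest w
      show w ∈ rest ↔ _
      refine ⟨Or.inl, ?_⟩
      rintro (h | ⟨s, h1, h2, -⟩)
      · exact h
      · obtain ⟨i, hi⟩ := card_pos.1 (show 0 < s.card by omega)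
        exact absurd (h1 i hi) (by omega)
    | succ n ihn =>
      intro rest w
      show w ∈ subA (k + 1) n acc (subA k n (Nat.add acc (Nat.shiftLeft 1 n)) rest) ↔ _
      have e : Nat.add acc (Nat.shiftLeft 1 n) = acc + 2 ^ n := by
        show acc + 1 <<< n = _
        rw [Nat.one_shiftLeft]
      rw [ihn, ih, e, or_assoc]
      refine or_congr Iff.rfl ⟨?_, ?_⟩
      · rintro (⟨s, h1, h2, rfl⟩ | ⟨s, h1, h2, rfl⟩)
        · have hn : n ∉ s := fun h => lt_irrefl _ (h1 n h)
          refine ⟨insert n s, ?_, by rw [card_insert_of_notMem hn, h2], by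
            rw [sum_insert hn, add_assoc]⟩
          intro i hi
          rcases mem_insert.1 hi with rfl | hi
          · omega
          · have := h1 i hi; omega
        · exact ⟨s, fun i hi => by have := h1 i hi; omega, h2, rfl⟩
      · rintro ⟨s, h1, h2, rfl⟩
        by_cases hn : n ∈ s
        · left
          refine ⟨s.erase n, fun i hi => ?_, by rw [card_erase_of_mem hn, h2]; rfl, ?_⟩
          · have := h1 i (mem_of_mem_erase hi)
            have := ne_of_mem_erase hi
            omega
          · rw [add_assoc, add_sum_erase s (fun i => 2 ^ i) hn]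
        · right
          refine ⟨s, fun i hi => ?_, h2, rfl⟩
          have := h1 i hi
          have : i ≠ n := fun h => hn (h ▸ hi)
          omega

/-- the masks of the `k`-subsets -/
noncomputable def subL (k : ℕ) : List ℕ := subA k 24 0 []

theorem mem_subL (k w : ℕ) : w ∈ subL k ↔ w < 2 ^ 24 ∧ (ofMask w).card = k := by
  rw [subL, mem_subA]
  simp only [List.not_mem_nil, false_or, zero_add]
  constructor
  · rintro ⟨s, h1, h2, rfl⟩
    have h3 : ∑ i ∈ s, 2 ^ i = toMask (s.image pt) := by
      rw [toMask_eq_sum_image, image_image]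
      apply sum_congr _ fun _ _ => rfl
      rw [image_congr (f := idx ∘ pt) (g := id) fun i hi => idx_pt (h1 i hi), image_id]
    rw [h3, ofMask_toMask, card_image_of_injOn, h2]
    · exact ⟨toMask_lt _, rfl⟩
    · intro a ha b hb hab
      exact (pt_inj (h1 a ha) (h1 b hb)).1 hab
  · rintro ⟨hw, h⟩
    refine ⟨(ofMask w).image idx, ?_, by rw [card_image_of_injective _ idx_injective, h], ?_⟩
    · intro i hi
      obtain ⟨p, -, rfl⟩ := mem_image.1 hi
      exact idx_lt p
    · rw [← toMask_eq_sum_image, toMask_ofMask hw]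

theorem univ_sub {k : ℕ} (h : strictInc (subL k) = true) :
    Univ {s : Finset GolayPt | s.card = k} (subL k) where
  inv := fun g _ s hs => by rw [Set.mem_ofPred_eq, card_smul']; exact hs
  mem_iff := fun w => mem_subL k w
  nodup := strictInc_nodup h

theorem univ_sub1 : Univ {s : Finset GolayPt | s.card = 1} (subL 1) := univ_sub (by decide +kernel)
theorem univ_sub2 : Univ {s : Finset GolayPt | s.card = 2} (subL 2) := univ_sub (by decide +kernel)
theorem univ_sub3 : Univ {s : Finset GolayPt | s.card = 3} (subL 3) := univ_sub (by decide +kernel)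

end CL.M24S
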