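import Cfsg.Agent.Base
import Cfsg.Agent.Spor.GolayOrbit
import Cfsg.Agent.Spor.M24Chain
import Cfsg.Agent.M24S.Orb
import Cfsg.Agent.M24S.Prim

/-! Standard configurations for `M24`: the octad `8536111 = {0,1,2,3,5,14,17,∞}`, the dodecad
`8449646 = {1,2,3,5,6,9,10,11,13,14,15,∞}`, flags on them, and the orders of their stabilisers. -/

set_option autoImplicit false

namespace CL.M24S
open Cfsg Finset CL.Golay
open scoped Pointwise

/-- generators of the stabiliser of [8536111] (order 322560); classes [(0, 16), (1, 8)] -/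
def gO : List ℕ := [69594318428981548767740277551567968, 984612719916064739198609570940485678]
theorem ggO : goodGens [8536111] gO = true := by decide +kernel
theorem crO : checkReps (subL 1) (sgM [8536111]) gO [8388608, 16] 17 = true := by decide +kernel

/-- generators of the stabiliser of [8388608, 8536111] (order 40320); classes [(0, 16), (32, 7), (33, 1)] -/
def gpO : List ℕ := [976684632964404667973982249928460449, 979422632813954605095480845586184353]
theorem ggpO : goodGens [8388608, 8536111] gpO = true := by decide +kernel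
theorem crpO : checkReps (subL 1) (sgM [8388608, 8536111]) gpO [1, 16] 17 = true := by decide +kernel

/-- generators of the stabiliser of [8449646] (order 95040); classes [(0, 12), (1, 12)] -/
def gD : List ℕ := [154005103808300640302844490787821991, 134513800263119417218353566614660275]
theorem ggD : goodGens [8449646] gD = true := by decide +kernel
theorem crD : checkReps (subL 1) (sgM [8449646]) gD [8388608, 1] 13 = true := by decide +kernel

/-- generators of the stabiliser of [8388608, 8449646] (order 7920); classes [(0, 12), (32, 11), (33, 1)] -/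
def gpD : List ℕ := [956298628919536306658089452571104372, 966506929917968311504427455346027556]
theorem ggpD : goodGens [8388608, 8449646] gpD = true := by decide +kernel
theorem crpD : checkReps (subL 1) (sgM [8388608, 8449646]) gpD [2, 1] 13 = true := by decide +kernel

/-- generators of the stabiliser of [2, 8388608, 8449646] (order 720); classes [(0, 12), (1024, 10), (1025, 1), (1056, 1)] -/
def gqpD : List ℕ := [965179506951982359578025350628936756, 983441612614015328335006116893238311]
theorem ggqpD : goodGens [2, 8388608, 8449646] gqpD = true := by decide +kernel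
theorem crqpD : checkReps (subL 1) (sgM [2, 8388608, 8449646]) gqpD [4] 11 = true := by decide +kernel


theorem O0_mem : ofMask 8536111 ∈ octads := ofMask_mem_octads_iff.2 (by decide +kernel)

theorem D0_mem : ofMask 8449646 ∈ dodecads := ofMask_mem_dodecads_iff.2 (by decide +kernel)

theorem sing_mem (p : GolayPt) : ({p} : Finset GolayPt) ∈ {s : Finset GolayPt | s.card = 1} :=
  card_singleton p

theorem card_inter_singleton (p : GolayPt) (x : Finset GolayPt) :
    (x ∩ {p}).card = if p ∈ x then 1 else 0 := by
  rw [inter_comm, card_singleton_inter]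

theorem orb_one {x y : Finset GolayPt} (h : ∃ g ∈ M24, g • x = y) : Orb [x] [y] := by
  obtain ⟨g, hg, h⟩ := h
  exact ⟨g, hg, by rw [smulL_cons, h]; rfl⟩

theorem orb_o {o : Finset GolayPt} (ho : o ∈ octads) : Orb [o] ([8536111].map ofMask) :=
  orb_one (octad_trans ho O0_mem)

theorem orb_d {d : Finset GolayPt} (hd : d ∈ dodecads) : Orb [d] ([8449646].map ofMask) :=
  orb_one (dodecad_trans hd D0_mem)

theorem orb_s {s : Finset GolayPt} {m : ℕ} (h : s.card = pop m) (h5 : s.card ≤ 5) :
    Orb [s] ([m].map ofMask) :=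
  orb_one (M24.exists_smul_finset_eq s _ (by rw [card_ofMask, h]) h5)

theorem orb_qp {p q : GolayPt} (h : p ≠ q) : Orb [{q}, {p}] ([1, 8388608].map ofMask) := by
  obtain ⟨g, hg, h⟩ := M24.exists_map_eq [q, p] [some 0, none] (by simpa using h.symm) (by decide)
    rfl (by simp)
  simp only [List.map_cons, List.map_nil, List.cons.injEq, and_true, Equiv.Perm.smul_def] at h
  refine ⟨g, hg, ?_⟩
  have e1 : ofMask 1 = {some 0} := ofMask_two_pow_idx (some 0)
  have e2 : ofMask 8388608 = {none} := ofMask_two_pow_idx none
  simp [h.1, h.2, e1, e2]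

theorem orb_po {o : Finset GolayPt} (ho : o ∈ octads) {p : GolayPt} (hp : p ∈ o) :
    Orb [{p}, o] ([8388608, 8536111].map ofMask) :=
  step univ_sub1 (inv_sg _) ggO crO (orb_o ho) (sing_mem p) (by decide)
    (by simp only [sg, card_inter_singleton, hp]; decide +kernel)

theorem orb_xo {o : Finset GolayPt} (ho : o ∈ octads) {p : GolayPt} (hp : p ∉ o) :
    Orb [{p}, o] ([16, 8536111].map ofMask) :=
  step univ_sub1 (inv_sg _) ggO crO (orb_o ho) (sing_mem p) (by decide)
    (by simp only [sg, card_inter_singleton, hp]; decide +kernel)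

theorem orb_qpo {o : Finset GolayPt} (ho : o ∈ octads) {p q : GolayPt} (hp : p ∈ o) (hq : q ∈ o)
    (hpq : p ≠ q) : Orb [{q}, {p}, o] ([1, 8388608, 8536111].map ofMask) :=
  step univ_sub1 (inv_sg _) ggpO crpO (orb_po ho hp) (sing_mem q) (by decide)
    (by simp only [sg, card_inter_singleton, hq, mem_singleton, hpq.symm]; decide +kernel)

theorem orb_xpo {o : Finset GolayPt} (ho : o ∈ octads) {p q : GolayPt} (hp : p ∈ o) (hq : q ∉ o) :
    Orb [{q}, {p}, o] ([16, 8388608, 8536111].map ofMask) :=
  have hpq : q ≠ p := fun h => hq (h ▸ hp)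
  step univ_sub1 (inv_sg _) ggpO crpO (orb_po ho hp) (sing_mem q) (by decide)
    (by simp only [sg, card_inter_singleton, hq, mem_singleton, hpq]; decide +kernel)

theorem orb_pd {d : Finset GolayPt} (hd : d ∈ dodecads) {p : GolayPt} (hp : p ∈ d) :
    Orb [{p}, d] ([8388608, 8449646].map ofMask) :=
  step univ_sub1 (inv_sg _) ggD crD (orb_d hd) (sing_mem p) (by decide)
    (by simp only [sg, card_inter_singleton, hp]; decide +kernel)

theorem orb_qpd {d : Finset GolayPt} (hd : d ∈ dodecads) {p q : GolayPt} (hp : p ∈ d) (hq : q ∈ d)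
    (hpq : p ≠ q) : Orb [{q}, {p}, d] ([2, 8388608, 8449646].map ofMask) :=
  step univ_sub1 (inv_sg _) ggpD crpD (orb_pd hd hp) (sing_mem q) (by decide)
    (by simp only [sg, card_inter_singleton, hq, mem_singleton, hpq.symm]; decide +kernel)

theorem orb_xpd {d : Finset GolayPt} (hd : d ∈ dodecads) {p q : GolayPt} (hp : p ∈ d) (hq : q ∉ d) :
    Orb [{q}, {p}, d] ([1, 8388608, 8449646].map ofMask) :=
  have hpq : q ≠ p := fun h => hq (h ▸ hp)
  step univ_sub1 (inv_sg _) ggpD crpD (orb_pd hd hp) (sing_mem q) (by decide)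
    (by simp only [sg, card_inter_singleton, hq, mem_singleton, hpq]; decide +kernel)

theorem orb_rqpd {d : Finset GolayPt} (hd : d ∈ dodecads) {p q r : GolayPt} (hp : p ∈ d)
    (hq : q ∈ d) (hr : r ∈ d) (hpq : p ≠ q) (hpr : p ≠ r) (hqr : q ≠ r) :
    Orb [{r}, {q}, {p}, d] ([4, 2, 8388608, 8449646].map ofMask) :=
  step univ_sub1 (inv_sg _) ggqpD crqpD (orb_qpd hd hp hq hpq) (sing_mem r) (by decide)
    (by simp only [sg, card_inter_singleton, hr, mem_singleton, hpr.symm, hqr.symm]; decide +kernel)

/-! ### Orders -/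

theorem card_fix_of_trans {U : Set (Finset GolayPt)} {x : Finset GolayPt}
    (hU : ∀ g ∈ M24, g • x ∈ U) (ht : ∀ y ∈ U, ∃ g ∈ M24, g • x = y) :
    U.ncard * Nat.card (Chain.fix M24 [x]) = 244823040 := by
  rw [← M24.card_M24, Chain.fix_cons, Chain.fix_nil]
  exact (Chain.card_eq_ncard_mul M24 x U hU ht).symm

theorem card_fix_o {o : Finset GolayPt} (ho : o ∈ octads) :
    Nat.card (Chain.fix M24 [o]) = 322560 := by
  have := card_fix_of_trans (fun g hg => smul_mem_octads hg ho) fun y hy => octad_trans ho hy
  rw [ncard_octads] at this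
  omega

theorem card_fix_d {d : Finset GolayPt} (hd : d ∈ dodecads) :
    Nat.card (Chain.fix M24 [d]) = 95040 := by
  have := card_fix_of_trans (fun g hg => smul_mem_dodecads hg hd) fun y hy => dodecad_trans hd hy
  rw [ncard_dodecads] at this
  omega

theorem card_fix_xO : Nat.card (Chain.fix M24 ([16, 8536111].map ofMask)) = 20160 := by
  have := card_fix_step univ_sub1 (inv_sg _) ggO crO (r := 16) (by decide) (by decide +kernel)
    (n := 16) (by decide +kernel)
  rw [show [8536111].map ofMask = [ofMask 8536111] from rfl, card_fix_o O0_mem] at this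
  omega

theorem card_fix_pD : Nat.card (Chain.fix M24 ([8388608, 8449646].map ofMask)) = 7920 := by
  have := card_fix_step univ_sub1 (inv_sg _) ggD crD (r := 8388608) (by decide) (by decide +kernel)
    (n := 12) (by decide +kernel)
  rw [show [8449646].map ofMask = [ofMask 8449646] from rfl, card_fix_d D0_mem] at this
  omega

theorem card_fix_qpD : Nat.card (Chain.fix M24 ([2, 8388608, 8449646].map ofMask)) = 720 := by
  have := card_fix_step univ_sub1 (inv_sg _) ggpD crpD (r := 2) (by decide) (by decide +kernel)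
    (n := 11) (by decide +kernel)
  rw [card_fix_pD] at this
  omega

theorem card_fix_xpD : Nat.card (Chain.fix M24 ([1, 8388608, 8449646].map ofMask)) = 660 := by
  have := card_fix_step univ_sub1 (inv_sg _) ggpD crpD (r := 1) (by decide) (by decide +kernel)
    (n := 12) (by decide +kernel)
  rw [card_fix_pD] at this
  omega

theorem card_fix_rqpD : Nat.card (Chain.fix M24 ([4, 2, 8388608, 8449646].map ofMask)) = 72 := by
  have := card_fix_step univ_sub1 (inv_sg _) ggqpD crqpD (r := 4) (by decide) (by decide +kernel)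
    (n := 10) (by decide +kernel)
  rw [card_fix_qpD] at this
  omega

/-- Maximality of the stabiliser of a set from the rank statement and the class counts. -/
theorem overgroup_of_rank {U : Set (Finset GolayPt)} {LU : List ℕ}
    {F : List (Finset GolayPt) → Finset GolayPt → ℕ} {x0 : ℕ} {f : ℕ → ℕ} {gens reps : List ℕ}
    {fuel : ℕ} (hU : Univ U LU) (hF : Inv F [x0] f) (hg : goodGens [x0] gens = true)
    (hc : checkReps LU f gens reps fuel = true) (ha : allClasses LU f (fun _ => true) reps = true)
    {x : Finset GolayPt} (hx : x ∈ U) (hl : ∀ y ∈ U, Orb [y] ([x0].map ofMask)) (vals : Finset ℕ)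
    (N : ℕ → ℕ) (hvals : ∀ r ∈ reps, f r ∈ vals)
    (hN : ∀ v ∈ vals, cntL (fun w => force w fun w => Nat.beq (f w) v) LU = N v) :
    (∀ y ∈ MulAction.orbit M24 x, F [x] y ∈ vals) ∧
    (∀ v ∈ vals, {y | y ∈ MulAction.orbit M24 x ∧ F [x] y = v}.ncard = N v) ∧
    (∀ y ∈ MulAction.orbit M24 x, ∀ z ∈ MulAction.orbit M24 x, F [x] y = F [x] z →
      ∃ h : M24, h • x = x ∧ h • y = z) := by
  have hO : MulAction.orbit M24 x = U := by
    ext y
    constructor
    · rintro ⟨g, rfl⟩; exact hU.inv g g.2 x hx
    · intro hy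
      obtain ⟨g, hg, h⟩ := (hl x hx).trans (hl y hy).symm
      exact ⟨⟨g, hg⟩, (List.cons.inj h).1⟩
  rw [hO]
  refine ⟨fun y hy => ?_, fun v hv => ?_, fun y hy z hz hyz => ?_⟩
  · have h1 : allL (fun w => force w fun w => decide (f w ∈ vals)) LU = true := by
      rw [allL_iff]
      intro w hw
      obtain ⟨r, hr, h⟩ := allClasses_spec ha hw rfl
      rw [force_eq, h]; exact decide_eq_true (hvals r hr)
    exact of_decide_eq_true (forall_class hU hF (hl x hx) (P := fun v => decide (v ∈ vals)) h1 hy)
  · rw [← hN v hv, ← count hU hF (hl x hx) fun u => Nat.beq u v]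
    simp only [Nat.beq_eq]
  · obtain ⟨g, hg, h1, h2⟩ := rank hU hF hg hc ha (hl x hx) hy hz rfl hyz
    exact ⟨⟨g, hg⟩, h1 x (by simp), h2⟩

end CL.M24S
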