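import Cfsg.Agent.Base
import Cfsg.Agent.M24S.Std

/-! Suborbits of `M24` on octads, dodecads, duads and triads. -/

set_option autoImplicit false

namespace CL.M24S
open Cfsg Finset CL.Golay
open scoped Pointwise

/-! ### The invariant recording also whether everything lies in one octad -/

/-- union of the members of a configuration -/
def unL (l : List (Finset GolayPt)) : Finset GolayPt := l.foldr (· ∪ ·) ∅

open Classical in
/-- intersection numbers, and whether the set lies in an octad with the whole configuration -/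
noncomputable def sgo (l : List (Finset GolayPt)) (x : Finset GolayPt) : ℕ :=
  2 * sg l x + if ∃ o ∈ octads, unL l ∪ x ⊆ o then 1 else 0

/-- mask version of `unL` -/
noncomputable def unM (l0 : List ℕ) : ℕ := List.rec 0 (fun m _ r => Nat.lor m r) l0

/-- mask version of `sgo` -/
noncomputable def sgoM (l0 : List ℕ) (w : ℕ) : ℕ :=
  Nat.add (Nat.mul 2 (sgM l0 w)) (Bool.rec 0 1 (anyL (fun o => Nat.beq (Nat.land w o) w)
    (filL (fun o => Nat.beq (Nat.land (Nat.land (unM l0) 16777215) o)
      (Nat.land (unM l0) 16777215)) octL)))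

theorem smul_unL (g : Equiv.Perm GolayPt) (l : List (Finset GolayPt)) :
    unL (smulL g l) = g • unL l := by
  induction l with
  | nil => simp [unL]
  | cons s l ih =>
    show g • s ∪ unL (smulL g l) = g • (s ∪ unL l)
    rw [ih, smul_union']

theorem ofMask_unM (l0 : List ℕ) : ofMask (unM l0) = unL (l0.map ofMask) := by
  induction l0 with
  | nil => exact ofMask_zero
  | cons m l ih =>
    show ofMask (Nat.lor m (unM l)) = ofMask m ∪ unL (l.map ofMask)
    rw [ofMask_lor, ih]

theorem exists_octad_smul {g : Equiv.Perm GolayPt} (hg : g ∈ M24) (s : Finset GolayPt) :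
    (∃ o ∈ octads, g • s ⊆ o) ↔ ∃ o ∈ octads, s ⊆ o := by
  constructor
  · rintro ⟨o, ho, h⟩
    refine ⟨g⁻¹ • o, smul_mem_octads (inv_mem hg) ho, ?_⟩
    rwa [← smul_subset_smul' g, smul_inv_smul]
  · rintro ⟨o, ho, h⟩
    exact ⟨g • o, smul_mem_octads hg ho, (smul_subset_smul' g).2 h⟩

theorem inv_sgo (l0 : List ℕ) : Inv sgo l0 (sgoM l0) where
  inv := by
    intro g hg l x
    unfold sgo
    rw [(inv_sg []).inv g hg, smul_unL, ← smul_union']
    by_cases h : ∃ o ∈ octads, unL l ∪ x ⊆ o
    · rw [if_pos h, if_pos ((exists_octad_smul hg _).2 h)]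
    · rw [if_neg h, if_neg fun h' => h ((exists_octad_smul hg _).1 h')]
  eq := by
    intro w hw
    unfold sgo
    rw [(inv_sg l0).eq w hw, ← ofMask_unM]
    show _ = 2 * sgM l0 w + _
    congr 1
    have key : (∃ o ∈ octads, ofMask (unM l0) ∪ ofMask w ⊆ o) ↔
        anyL (fun o => Nat.beq (Nat.land w o) w)
          (filL (fun o => Nat.beq (Nat.land (Nat.land (unM l0) 16777215) o)
            (Nat.land (unM l0) 16777215)) octL) = true := by
      rw [anyL_iff]
      simp only [mem_filL, Nat.beq_eq, union_subset_iff]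
      constructor
      · rintro ⟨o, ho, h1, h2⟩
        refine ⟨toMask o, ⟨univ_oct.toMask_mem ho, ?_⟩, ?_⟩
        · exact (ofMask_subset_iff (and_full_lt _)).1 (by rwa [ofMask_toMask, ofMask_and_full])
        · exact (ofMask_subset_iff hw).1 (by rwa [ofMask_toMask])
      · rintro ⟨o, ⟨ho, h1⟩, h2⟩
        refine ⟨ofMask o, ((univ_oct.mem_iff o).1 ho).2, ?_, (ofMask_subset_iff hw).2 h2⟩
        have := (ofMask_subset_iff (and_full_lt (unM l0))).2 h1
        rwa [ofMask_and_full] at this
    split_ifs with h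
    · rw [key.1 h]
    · rw [key, Bool.not_eq_true] at h; rw [h]

/-! ### Octads relative to an octad, dodecads relative to a dodecad -/

theorem crOO : checkReps octL (sgM [8536111]) gO [337856, 15777, 5279, 8536111] 449 = true := by
  decide +kernel
theorem acOO : allClasses octL (sgM [8536111]) (fun _ => true) [337856, 15777, 5279, 8536111]
    = true := by decide +kernel

theorem crDD : checkReps dodL (sgM [8449646]) gD [8327569, 736209, 129431, 28637, 8449646] 1585
    = true := by decide +kernel
theorem acDD : allClasses dodL (sgM [8449646]) (fun _ => true)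
    [8327569, 736209, 129431, 28637, 8449646] = true := by decide +kernel

theorem sg_one (s x : Finset GolayPt) : sg [s] x = (s ∩ x).card := rfl

theorem rank_oct {o o' o'' : Finset GolayPt} (ho : o ∈ octads) (ho' : o' ∈ octads)
    (ho'' : o'' ∈ octads) (h : (o ∩ o').card = (o ∩ o'').card) :
    ∃ g ∈ M24, g • o = o ∧ g • o' = o'' := by
  obtain ⟨g, hg, h1, h2⟩ := rank univ_oct (inv_sg _) ggO crOO acOO (orb_o ho) ho' ho'' rfl h
  exact ⟨g, hg, h1 o (by simp), h2⟩

theorem rank_dod {d d' d'' : Finset GolayPt} (hd : d ∈ dodecads) (hd' : d' ∈ dodecads)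
    (hd'' : d'' ∈ dodecads) (h : (d ∩ d').card = (d ∩ d'').card) :
    ∃ g ∈ M24, g • d = d ∧ g • d' = d'' := by
  obtain ⟨g, hg, h1, h2⟩ := rank univ_dod (inv_sg _) ggD crDD acDD (orb_d hd) hd' hd'' rfl h
  exact ⟨g, hg, h1 d (by simp), h2⟩

theorem exists_smul_ne {s : Finset GolayPt} (h0 : s.Nonempty) (h1 : s ≠ univ) :
    ∃ g : M24, g • s ≠ s := by
  obtain ⟨p, hp⟩ := h0
  obtain ⟨q, hq⟩ : ∃ q, q ∉ s := by
    by_contra h; push Not at h; exact h1 (eq_univ_iff_forall.2 h)
  obtain ⟨g, hg, h⟩ := M24.exists_map_eq [p] [q] (by simp) (by simp) rfl (by simp)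
  refine ⟨⟨g, hg⟩, fun h' => hq ?_⟩
  have h2 : g p = q := by simpa using h
  rw [← h2]
  exact (smul_eq_self_iff.1 h' p).2 hp

theorem isCoatom_stab_oct {o : Finset GolayPt} (ho : o ∈ octads) :
    IsCoatom (MulAction.stabilizer M24 o) := by
  obtain ⟨h1, h2, h3⟩ := overgroup_of_rank univ_oct (inv_sg _) ggO crOO acOO ho
    (fun y hy => orb_o hy) {0, 2, 4, 8}
    (fun v => if v = 0 then 30 else if v = 2 then 448 else if v = 4 then 280 else 1)
    (by decide +kernel) (by decide +kernel)
  refine isCoatom_stabilizer_of_classes o (sg [o]) _ _ h1 h2 h3 8 (by rw [sg_one, inter_self, ho.2])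
    (exists_smul_ne (card_pos.1 (by rw [ho.2]; norm_num)) ?_) (by decide +kernel)
  rintro rfl
  exact absurd ho.2 (by simp)

theorem overgroup_stab_dod {d : Finset GolayPt} (hd : d ∈ dodecads) (K : Subgroup M24)
    (hK : MulAction.stabilizer M24 d ≤ K) : K = ⊤ ∨ ∀ k ∈ K, k • d = d ∨ k • d = dᶜ := by
  obtain ⟨h1, h2, h3⟩ := overgroup_of_rank univ_dod (inv_sg _) ggD crDD acDD hd
    (fun y hy => orb_d hy) {0, 4, 6, 8, 12}
    (fun v => if v = 4 then 495 else if v = 6 then 1584 else if v = 8 then 495 else 1)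
    (by decide +kernel) (by decide +kernel)
  obtain ⟨I, hI, -, h5, h6, h7⟩ := overgroup_classes d (sg [d]) _ _ h1 h2 h3 K hK
  have key : ∀ I ∈ ({0, 4, 6, 8, 12} : Finset ℕ).powerset,
      (∑ v ∈ I, if v = 4 then 495 else if v = 6 then 1584 else if v = 8 then 495 else 1) ∣
        ∑ v ∈ ({0, 4, 6, 8, 12} : Finset ℕ),
          (if v = 4 then 495 else if v = 6 then 1584 else if v = 8 then 495 else 1) →
      I ⊆ {0, 12} ∨
      (∑ v ∈ I, if v = 4 then 495 else if v = 6 then 1584 else if v = 8 then 495 else 1) =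
        ∑ v ∈ ({0, 4, 6, 8, 12} : Finset ℕ),
          (if v = 4 then 495 else if v = 6 then 1584 else if v = 8 then 495 else 1) := by
    decide +kernel
  rcases key I (mem_powerset.2 hI) h5 with h | h
  · right
    intro k hk
    have h8 := h (h6 (k • d) ⟨⟨k, hk⟩, rfl⟩)
    have h9 : (k • d).card = 12 := (smul_mem_dodecads k.2 hd).2
    rw [sg_one, mem_insert, mem_singleton] at h8
    rcases h8 with h8 | h8
    · right
      apply eq_of_subset_of_card_le _ (by rw [h9, (compl_mem_dodecads hd).2])
      intro p hp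
      rw [mem_compl]
      intro hpd
      have : p ∈ d ∩ k • d := mem_inter.2 ⟨hpd, hp⟩
      rw [card_eq_zero.1 h8] at this
      exact absurd this (by simp)
    · left
      have h10 : d ∩ k • d = d := eq_of_subset_of_card_le inter_subset_left (by rw [h8, hd.2])
      exact (eq_of_subset_of_card_le (inter_eq_left.1 h10) (by rw [h9, hd.2])).symm
  · exact Or.inl (h7 h)

/-! ### Duads and triads -/

/-- generators of the stabiliser of the duad `{0, ∞}` (order 887040) -/
def gS2 : List ℕ := [975438486356611609107709163178399360, 14533816072309908541122878592721303]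
theorem ggS2 : goodGens [8388609] gS2 = true := by decide +kernel
theorem crS2 : checkReps (subL 2) (sgM [8388609]) gS2 [6, 3, 8388609] 232 = true := by
  decide +kernel
theorem acS2 : allClasses (subL 2) (sgM [8388609]) (fun _ => true) [6, 3, 8388609] = true := by
  decide +kernel

/-- generators of the stabiliser of the triad `{0, 1, ∞}` (order 120960) -/
def gS3 : List ℕ := [20380594424321000237758174371128033, 8491447111793036135615200712870967]
theorem ggS3 : goodGens [8388611] gS3 = true := by decide +kernel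
theorem crS3 : checkReps (subL 3) (sgoM [8388611]) gS3 [28, 44, 13, 7, 8388611] 1121 = true := by
  decide +kernel
theorem acS3 : allClasses (subL 3) (sgoM [8388611]) (fun _ => true) [28, 44, 13, 7, 8388611]
    = true := by decide +kernel

theorem orb_s2 {s : Finset GolayPt} (hs : s.card = 2) : Orb [s] ([8388609].map ofMask) :=
  orb_s (by rw [hs]; decide +kernel) (by omega)

theorem orb_s3 {s : Finset GolayPt} (hs : s.card = 3) : Orb [s] ([8388611].map ofMask) :=
  orb_s (by rw [hs]; decide +kernel) (by omega)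

theorem isCoatom_stab_duad {s : Finset GolayPt} (hs : s.card = 2) :
    IsCoatom (MulAction.stabilizer M24 s) := by
  obtain ⟨h1, h2, h3⟩ := overgroup_of_rank univ_sub2 (inv_sg _) ggS2 crS2 acS2 hs
    (fun y hy => orb_s2 hy) {0, 1, 2}
    (fun v => if v = 0 then 231 else if v = 1 then 44 else 1)
    (by decide +kernel) (by decide +kernel)
  refine isCoatom_stabilizer_of_classes s (sg [s]) _ _ h1 h2 h3 2 (by rw [sg_one, inter_self, hs])
    (exists_smul_ne (card_pos.1 (by rw [hs]; norm_num)) ?_) (by decide +kernel)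
  rintro rfl
  exact absurd hs (by simp)

theorem isCoatom_stab_triad {s : Finset GolayPt} (hs : s.card = 3) :
    IsCoatom (MulAction.stabilizer M24 s) := by
  obtain ⟨h1, h2, h3⟩ := overgroup_of_rank univ_sub3 (inv_sgo _) ggS3 crS3 acS3 hs
    (fun y hy => orb_s3 hy) {0, 1, 3, 5, 7}
    (fun v => if v = 0 then 1120 else if v = 1 then 210 else if v = 3 then 630 else
      if v = 5 then 63 else 1)
    (by decide +kernel) (by decide +kernel)
  refine isCoatom_stabilizer_of_classes s (sgo [s]) _ _ h1 h2 h3 7 ?_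
    (exists_smul_ne (card_pos.1 (by rw [hs]; norm_num)) ?_) (by decide +kernel)
  · have h4 := h1 s (MulAction.mem_orbit_self s)
    unfold sgo at h4 ⊢
    rw [sg_one, inter_self, hs] at h4 ⊢
    split_ifs at h4 ⊢
    · rfl
    · exact absurd h4 (by decide)
  · rintro rfl
    exact absurd hs (by simp)

end CL.M24S
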