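import Cfsg.Agent.Base
import Cfsg.Agent.M24S.Rank
import Cfsg.Agent.M24S.Grp

/-! Enumeration of the elements of small subgroups of `Sym(24)`, conjugacy classes, lower bounds
for orbit lengths, and invariant sets as unions of point orbits. -/

set_option autoImplicit false

namespace CL.M24S
open Cfsg Finset CL.Golay
open scoped Pointwise

/-- the packed permutations of `gens` lie in `H` -/
def GensIn (H : Subgroup (Equiv.Perm GolayPt)) (gens : List ℕ) : Prop :=
  ∀ c ∈ gens, Rep (toPerm c) c ∧ toPerm c ∈ H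

theorem GensIn.mono {H K : Subgroup (Equiv.Perm GolayPt)} {gens : List ℕ} (h : GensIn H gens)
    (hHK : H ≤ K) : GensIn K gens := fun c hc => ⟨(h c hc).1, hHK (h c hc).2⟩

theorem GensIn.append {H : Subgroup (Equiv.Perm GolayPt)} {g g' : List ℕ} (h : GensIn H g)
    (h' : GensIn H g') : GensIn H (g ++ g') := fun c hc =>
  (List.mem_append.1 hc).elim (h c) (h' c)

theorem gensIn_fix {l0 gens : List ℕ} (h : goodGens l0 gens = true) :
    GensIn (Chain.fix M24 (l0.map ofMask)) gens := goodGens_spec h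

theorem gensIn_M24 {gens : List ℕ} (h : goodGens [] gens = true) : GensIn M24 gens :=
  (gensIn_fix h).mono (Chain.fix_le _ _)

/-- the subgroup generated by packed permutations -/
def cl (gens : List ℕ) : Subgroup (Equiv.Perm GolayPt) :=
  Subgroup.closure {σ | ∃ c ∈ gens, σ = toPerm c}

theorem cl_le {H : Subgroup (Equiv.Perm GolayPt)} {gens : List ℕ} (h : GensIn H gens) :
    cl gens ≤ H := by
  rw [cl, Subgroup.closure_le]
  rintro _ ⟨c, hc, rfl⟩
  exact (h c hc).2

theorem GensIn.cl {H : Subgroup (Equiv.Perm GolayPt)} {gens : List ℕ} (h : GensIn H gens) :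
    GensIn (cl gens) gens := fun c hc => ⟨(h c hc).1, Subgroup.subset_closure ⟨c, hc, rfl⟩⟩

theorem packN_congr {f f' : ℕ → ℕ} {n : ℕ} (h : ∀ i < n, f i = f' i) : packN f n = packN f' n := by
  rw [packN_eq_sum, packN_eq_sum]
  exact sum_congr rfl fun i hi => by rw [h i (mem_range.1 hi)]

theorem mulP_eq_codeP {σ τ : Equiv.Perm GolayPt} {g k : ℕ} (h : Rep σ g) (h' : Rep τ k) :
    mulP g k = codeP (σ * τ) :=
  packN_congr fun i hi => by rw [Equiv.Perm.mul_apply, h, h', idx_pt hi]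

theorem idP_eq_codeP : idP = codeP 1 := by decide +kernel

attribute [local irreducible] codeP mulP idP invP

theorem codeP_injective : Function.Injective codeP := fun σ τ h =>
  (rep_codeP σ).unique (h ▸ rep_codeP τ)

theorem toPerm_codeP (σ : Equiv.Perm GolayPt) : toPerm (codeP σ) = σ :=
  (rep_codeP σ).eq_toPerm.symm

theorem codeP_eq_idP {σ : Equiv.Perm GolayPt} : codeP σ = idP ↔ σ = 1 := by
  rw [idP_eq_codeP, codeP_injective.eq_iff]

theorem codeP_mul (σ τ : Equiv.Perm GolayPt) : mulP (codeP σ) (codeP τ) = codeP (σ * τ) :=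
  mulP_eq_codeP (rep_codeP σ) (rep_codeP τ)

/-- the list of elements reached from the identity -/
noncomputable abbrev elts (gens : List ℕ) (fuel : ℕ) : List ℕ := orbL mulP gens fuel idP

section
variable {H : Subgroup (Equiv.Perm GolayPt)} {gens : List ℕ} {fuel n : ℕ} {ok : ℕ → Bool}

theorem elts_sound (hg : GensIn H gens) : ∀ y ∈ elts gens fuel, ∃ σ ∈ H, y = codeP σ :=
  orbL_sound (P := fun y => ∃ σ ∈ H, y = codeP σ)
    (fun c hc _ ⟨σ, hσ, h⟩ => ⟨toPerm c * σ, mul_mem (hg c hc).2 hσ,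
      h ▸ mulP_eq_codeP (hg c hc).1 (rep_codeP σ)⟩) ⟨1, one_mem _, idP_eq_codeP⟩

theorem ncard_codeP (H : Subgroup (Equiv.Perm GolayPt)) :
    (codeP '' (H : Set (Equiv.Perm GolayPt))).ncard = Nat.card H := by
  rw [Set.ncard_image_of_injective _ codeP_injective]; rfl

theorem le_card_of_enum (hg : GensIn H gens) (h : orbCount mulP gens fuel idP ok n = true) :
    n ≤ Nat.card H := by
  classical
  obtain ⟨h1, h2, -⟩ := orbCount_spec h
  rw [← ncard_codeP, ← h2, ← List.toFinset_card_of_nodup h1, ← Set.ncard_coe_finset]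
  refine Set.ncard_le_ncard (fun y hy => ?_) (Set.toFinite _)
  obtain ⟨σ, hσ, rfl⟩ := elts_sound hg y (by simpa using hy)
  exact ⟨σ, hσ, rfl⟩

theorem mem_elts (hg : GensIn H gens) (h : orbCount mulP gens fuel idP ok n = true)
    (hc : Nat.card H ≤ n) {σ : Equiv.Perm GolayPt} (hσ : σ ∈ H) : codeP σ ∈ elts gens fuel := by
  classical
  obtain ⟨h1, h2, -⟩ := orbCount_spec h
  have : ((elts gens fuel).toFinset : Set ℕ) = codeP '' (H : Set (Equiv.Perm GolayPt)) := by
    refine Set.eq_of_subset_of_ncard_le (fun y hy => ?_) ?_ (Set.toFinite _)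
    · obtain ⟨σ, hσ, rfl⟩ := elts_sound hg y (by simpa using hy)
      exact ⟨σ, hσ, rfl⟩
    · rwa [ncard_codeP, Set.ncard_coe_finset, List.toFinset_card_of_nodup h1, h2]
  have h3 : codeP σ ∈ ((elts gens fuel).toFinset : Set ℕ) := this ▸ ⟨σ, hσ, rfl⟩
  simpa using h3

theorem forall_of_enum (hg : GensIn H gens) (h : orbCount mulP gens fuel idP ok n = true)
    (hc : Nat.card H ≤ n) {σ : Equiv.Perm GolayPt} (hσ : σ ∈ H) : ok (codeP σ) = true :=
  (orbCount_spec h).2.2 _ (mem_elts hg h hc hσ)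

theorem eq_cl_of_enum (hg : GensIn H gens) (h : orbCount mulP gens fuel idP ok n = true)
    (hc : Nat.card H ≤ n) : H = cl gens :=
  (Subgroup.eq_of_le_of_card_ge (cl_le hg) (hc.trans (le_card_of_enum hg.cl h))).symm

theorem ncard_of_enum (hg : GensIn H gens) (h : orbCount mulP gens fuel idP ok n = true)
    (hc : Nat.card H ≤ n) {S : Set (Equiv.Perm GolayPt)} {f : ℕ → Bool}
    (hS : ∀ σ, σ ∈ S ↔ σ ∈ H ∧ f (codeP σ) = true) : S.ncard = cntL f (elts gens fuel) := by
  classical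
  rw [cntL_eq, ← List.toFinset_card_of_nodup ((orbCount_spec h).1.filter _),
    ← Set.ncard_coe_finset, ← Set.ncard_image_of_injective _ codeP_injective]
  congr 1
  ext y
  simp only [Set.mem_image, List.coe_toFinset, List.mem_filter, Set.mem_ofPred_eq]
  constructor
  · rintro ⟨σ, hσ, rfl⟩
    exact ⟨mem_elts hg h hc ((hS σ).1 hσ).1, ((hS σ).1 hσ).2⟩
  · rintro ⟨h1, h2⟩
    obtain ⟨σ, hσ, rfl⟩ := elts_sound hg y h1
    exact ⟨σ, (hS σ).2 ⟨hσ, h2⟩, rfl⟩

theorem card_cl_of_closed (hg : GensIn H gens) (h : orbClosed mulP gens fuel idP ok n = true) :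
    Nat.card (cl gens) = n ∧ ∀ σ ∈ cl gens, ok (codeP σ) = true := by
  classical
  obtain ⟨h1, h2, h3, h4, h5⟩ := orbClosed_spec h
  have key : ∀ σ ∈ cl gens, codeP σ ∈ elts gens fuel := by
    intro σ hσ
    rw [cl, ← Subgroup.mem_toSubmonoid, Subgroup.closure_toSubmonoid_of_finite] at hσ
    induction hσ using Submonoid.closure_induction_left with
    | one => rw [← idP_eq_codeP]; exact h4
    | mul_left x hx y _ ih =>
      obtain ⟨c, hc, rfl⟩ := hx
      rw [← mulP_eq_codeP (hg c hc).1 (rep_codeP y)]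
      exact h5 _ ih c hc
  refine ⟨?_, fun σ hσ => h3 _ (key σ hσ)⟩
  rw [← ncard_codeP, ← h2, ← List.toFinset_card_of_nodup h1, ← Set.ncard_coe_finset]
  congr 1
  ext y
  simp only [Set.mem_image, List.coe_toFinset, Set.mem_ofPred_eq, SetLike.mem_coe]
  constructor
  · rintro ⟨σ, hσ, rfl⟩; exact key σ hσ
  · intro hy
    obtain ⟨σ, hσ, rfl⟩ := elts_sound hg.cl y hy
    exact ⟨σ, hσ, rfl⟩

end

/-! ### Lower bounds for orbit lengths -/

/-- the search found at least `n` distinct codes, each passing the test `ok` -/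
noncomputable def orbGe (act : ℕ → ℕ → ℕ) (gens : List ℕ) (fuel x0 : ℕ) (ok : ℕ → Bool)
    (n : ℕ) : Bool :=
  (fun l => Bool.rec false (Bool.rec false (allL ok l) (Nat.ble n (lenL l))) (strictInc l))
    (orbL act gens fuel x0)

theorem orbGe_spec {act : ℕ → ℕ → ℕ} {gens : List ℕ} {fuel x0 : ℕ} {ok : ℕ → Bool} {n : ℕ}
    (h : orbGe act gens fuel x0 ok n = true) :
    (orbL act gens fuel x0).Nodup ∧ n ≤ (orbL act gens fuel x0).length ∧
      ∀ y ∈ orbL act gens fuel x0, ok y = true := by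
  unfold orbGe at h
  simp only at h
  cases h1 : strictInc (orbL act gens fuel x0)
  · rw [h1] at h; exact absurd h (by simp)
  · rw [h1] at h
    cases h2 : Nat.ble n (lenL (orbL act gens fuel x0))
    · rw [h2] at h; exact absurd h (by simp)
    · rw [h2] at h
      exact ⟨strictInc_nodup h1, by rw [← lenL_eq]; exact Nat.le_of_ble_eq_true h2, allL_iff.1 h⟩

/-- A lower bound for the size of a set from a search on codes. -/
theorem le_ncard_of_orbGe {α : Type*} {act : ℕ → ℕ → ℕ} {gens : List ℕ} {fuel x0 : ℕ}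
    {ok : ℕ → Bool} {n : ℕ} (h : orbGe act gens fuel x0 ok n = true) (dec : ℕ → α)
    (hinj : ∀ a b, ok a = true → ok b = true → dec a = dec b → a = b) {S : Set α} (hS : S.Finite)
    (h0 : dec x0 ∈ S) (hstep : ∀ c ∈ gens, ∀ x, dec x ∈ S → dec (act c x) ∈ S) : n ≤ S.ncard := by
  classical
  obtain ⟨h1, h2, h3⟩ := orbGe_spec h
  have h4 : ((orbL act gens fuel x0).map dec).Nodup :=
    List.Nodup.map_on (fun a ha b hb => hinj a b (h3 a ha) (h3 b hb)) h1
  refine h2.trans ?_
  rw [← List.length_map dec, ← List.toFinset_card_of_nodup h4, ← Set.ncard_coe_finset]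
  refine Set.ncard_le_ncard (fun y hy => ?_) hS
  simp only [List.coe_toFinset, List.mem_map, Set.mem_ofPred_eq] at hy
  obtain ⟨x, hx, rfl⟩ := hy
  exact orbL_sound (P := fun x => dec x ∈ S) hstep h0 x hx

/-- the test `x < 2 ^ 24` -/
def lt24 (x : ℕ) : Bool := Nat.ble x 16777215

theorem lt_of_lt24 {x : ℕ} (h : lt24 x = true) : x < 2 ^ 24 :=
  Nat.lt_succ_of_le (Nat.le_of_ble_eq_true h)

theorem le_ncard_orbit {H : Subgroup (Equiv.Perm GolayPt)} {gens : List ℕ} (hg : GensIn H gens)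
    {fuel w n : ℕ} (h : orbGe act gens fuel w lt24 n = true) :
    n ≤ (MulAction.orbit H (ofMask w)).ncard := by
  refine le_ncard_of_orbGe h ofMask (fun a b ha hb => (ofMask_inj (lt_of_lt24 ha) (lt_of_lt24 hb)).1)
    (Set.toFinite _) (MulAction.mem_orbit_self _) ?_
  rintro c hc x ⟨σ, hσ⟩
  refine ⟨⟨toPerm c, (hg c hc).2⟩ * σ, ?_⟩
  simp only [mul_smul, hσ]
  exact (hg c hc).1.smul_ofMask x

/-- A subgroup `J ≤ H` fixing a set with a long `H`-orbit is small. -/
theorem mul_card_le_of_orbGe {H J : Subgroup (Equiv.Perm GolayPt)} {gens : List ℕ}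
    (hg : GensIn H gens) {fuel w n : ℕ} (h : orbGe act gens fuel w lt24 n = true) (hJ : J ≤ H)
    (hw : ∀ g ∈ J, g • ofMask w = ofMask w) : n * Nat.card J ≤ Nat.card H := by
  rw [← ncard_orbit_mul_card H (ofMask w)]
  exact Nat.mul_le_mul (le_ncard_orbit hg h)
    (Subgroup.card_le_of_le fun g hg => ⟨hJ hg, hw g hg⟩)

/-! ### Conjugation -/

/-- the packed conjugate `g x g⁻¹` -/
noncomputable def conjP (g x : ℕ) : ℕ :=
  force (mulP g x) fun y => force (invP g) fun z => mulP y z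

theorem conjP_eq {σ τ : Equiv.Perm GolayPt} {g x : ℕ} (h : Rep σ g) (h' : Rep τ x) :
    conjP g x = codeP (σ * τ * σ⁻¹) := mulP_eq_codeP (h.mul h') h.inv

theorem conj_reach {H : Subgroup (Equiv.Perm GolayPt)} {gens : List ℕ} (hg : GensIn H gens)
    (τ : Equiv.Perm GolayPt) : ∀ c ∈ gens, ∀ x, (∃ σ ∈ H, x = codeP (σ * τ * σ⁻¹)) →
      ∃ σ ∈ H, conjP c x = codeP (σ * τ * σ⁻¹) := by
  rintro c hc _ ⟨σ, hσ, rfl⟩
  refine ⟨toPerm c * σ, mul_mem (hg c hc).2 hσ, ?_⟩
  rw [conjP_eq (hg c hc).1 (rep_codeP _)]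
  simp [mul_assoc]

theorem le_ncard_conj {H : Subgroup (Equiv.Perm GolayPt)} {gens : List ℕ} (hg : GensIn H gens)
    {τ : Equiv.Perm GolayPt} {fuel x n : ℕ} {ok : ℕ → Bool} (hx : x = codeP τ)
    (h : orbGe conjP gens fuel x ok n = true) :
    n ≤ {ρ | ∃ σ ∈ H, ρ = σ * τ * σ⁻¹}.ncard := by
  rw [← Set.ncard_image_of_injective _ codeP_injective]
  refine le_ncard_of_orbGe h id (fun _ _ _ _ h => h) (Set.toFinite _)
    ⟨τ, ⟨1, one_mem _, by simp⟩, hx.symm⟩ ?_
  rintro c hc x ⟨_, ⟨σ, hσ, rfl⟩, h⟩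
  obtain ⟨σ', hσ', h'⟩ := conj_reach hg τ c hc x ⟨σ, hσ, h.symm⟩
  exact ⟨_, ⟨σ', hσ', rfl⟩, h'.symm⟩

/-! ### Invariant sets as unions of point orbits -/

/-- all unions of members of a list of masks -/
def subU : List ℕ → List ℕ
  | [] => [0]
  | m :: l => subU l ++ (subU l).map (Nat.lor m)

theorem exists_subU (V : Finset GolayPt) (Os : List ℕ)
    (h : ∀ m ∈ Os, ofMask m ⊆ V ∨ Disjoint (ofMask m) V) :
    ∃ w ∈ subU Os, V ∩ ofMask (unM Os) = ofMask w := by
  induction Os with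
  | nil => exact ⟨0, by simp [subU], by
      show V ∩ ofMask 0 = _
      rw [ofMask_zero, inter_empty]⟩
  | cons m l ih =>
    obtain ⟨w, hw, e⟩ := ih fun m hm => h m (List.mem_cons_of_mem _ hm)
    have e1 : ofMask (unM (m :: l)) = ofMask m ∪ ofMask (unM l) := ofMask_lor _ _
    rcases h m List.mem_cons_self with h1 | h1
    · refine ⟨Nat.lor m w, List.mem_append_right _ (List.mem_map_of_mem hw), ?_⟩
      rw [e1, ofMask_lor, inter_union_distrib_left, e, inter_eq_right.2 h1]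
    · refine ⟨w, List.mem_append_left _ hw, ?_⟩
      rw [e1, inter_union_distrib_left, e, disjoint_iff_inter_eq_empty.1 h1.symm, empty_union]

/-- A set invariant under the generators is a union of their point orbits. -/
theorem invariant_cases {gens pts Os : List ℕ} (hp : ∀ i ∈ pts, i < 24)
    (hOs : pts.map (orbPt gens) = Os) (hfull : unM Os = 16777215) {V : Finset GolayPt}
    (hV : GensIn (MulAction.stabilizer (Equiv.Perm GolayPt) V) gens) :
    ∃ w ∈ subU Os, V = ofMask w := by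
  obtain ⟨w, hw, e⟩ := exists_subU V Os (by
    subst hOs
    intro m hm
    obtain ⟨i, hi, rfl⟩ := List.mem_map.1 hm
    have key : ∀ q ∈ ofMask (orbPt gens i), (q ∈ V ↔ pt i ∈ V) := fun q hq => by
      obtain ⟨σ, hσ, rfl⟩ := orbPt_sound (fun c hc => ⟨_, (hV c hc).2, (hV c hc).1⟩) (hp i hi) hq
      exact smul_eq_self_iff.1 hσ _
    by_cases h : pt i ∈ V
    · exact Or.inl fun q hq => (key q hq).2 h
    · exact Or.inr (disjoint_left.2 fun q hq hq' => h ((key q hq).1 hq')))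
  rw [hfull, ofMask_full, inter_univ] at e
  exact ⟨w, hw, e⟩

/-- the orbit of a point as a finite set -/
noncomputable def orbF (H : Subgroup (Equiv.Perm GolayPt)) (z : GolayPt) : Finset GolayPt :=
  (Set.toFinite (MulAction.orbit H z)).toFinset

theorem mem_orbF {H : Subgroup (Equiv.Perm GolayPt)} {z p : GolayPt} :
    p ∈ orbF H z ↔ ∃ g ∈ H, g z = p := by
  rw [orbF, Set.Finite.mem_toFinset]
  exact ⟨fun ⟨g, h⟩ => ⟨g, g.2, h⟩, fun ⟨g, hg, h⟩ => ⟨⟨g, hg⟩, h⟩⟩

theorem self_mem_orbF (H : Subgroup (Equiv.Perm GolayPt)) (z : GolayPt) : z ∈ orbF H z :=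
  mem_orbF.2 ⟨1, one_mem _, rfl⟩

theorem smul_orbF {H : Subgroup (Equiv.Perm GolayPt)} (z : GolayPt) {g : Equiv.Perm GolayPt}
    (hg : g ∈ H) : g • orbF H z = orbF H z :=
  smul_eq_self_of_mapsTo fun p hp => by
    obtain ⟨k, hk, rfl⟩ := mem_orbF.1 hp
    exact mem_orbF.2 ⟨g * k, mul_mem hg hk, rfl⟩

theorem card_orbF_mul (H : Subgroup (Equiv.Perm GolayPt)) (z : GolayPt) :
    (orbF H z).card * Nat.card (H ⊓ MulAction.stabilizer (Equiv.Perm GolayPt) z :
      Subgroup (Equiv.Perm GolayPt)) = Nat.card H := by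
  rw [orbF, ← Set.ncard_eq_toFinset_card, ncard_orbit_mul_card]

/-- The orbit of a point under an overgroup of `gens` is a union of point orbits of `gens`. -/
theorem orbF_cases {H : Subgroup (Equiv.Perm GolayPt)} {gens pts Os : List ℕ} (hg : GensIn H gens)
    (hp : ∀ i ∈ pts, i < 24) (hOs : pts.map (orbPt gens) = Os) (hfull : unM Os = 16777215)
    (z : GolayPt) : ∃ w ∈ subU Os, orbF H z = ofMask w ∧ w.testBit (idx z) = true ∧
      (∀ g ∈ H, g • ofMask w = ofMask w) ∧ pop w * Nat.card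
        (H ⊓ MulAction.stabilizer (Equiv.Perm GolayPt) z : Subgroup (Equiv.Perm GolayPt)) =
          Nat.card H := by
  obtain ⟨w, hw, e⟩ := invariant_cases hp hOs hfull (V := orbF H z)
    (hg.mono fun g hg => smul_orbF z hg)
  refine ⟨w, hw, e, mem_ofMask.1 (e ▸ self_mem_orbF H z), fun g hg => e ▸ smul_orbF z hg, ?_⟩
  rw [← card_ofMask, ← e, card_orbF_mul]

end CL.M24S
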