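import Cfsg.Agent.Base
import Cfsg.Agent.M24S.Enum

/-! Families of `k` point sets (sextets, trios, quartets) coded by one number, their orbits and
suborbits. -/

set_option autoImplicit false

namespace CL.M24S
open Cfsg Finset CL.Golay
open scoped Pointwise

/-- the `k` masks packed in `c` -/
noncomputable def unp (k c : ℕ) : List ℕ :=
  Nat.rec (motive := fun _ => ℕ → List ℕ) (fun _ => [])
    (fun _ r c => Nat.land c 16777215 :: r (Nat.shiftRight c 24)) k c

theorem unp_zero (c : ℕ) : unp 0 c = [] := rfl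

theorem unp_succ' (k c : ℕ) :
    unp (k + 1) c = Nat.land c 16777215 :: unp k (Nat.shiftRight c 24) := rfl

theorem unp_succ (k c : ℕ) : unp (k + 1) c = c % 2 ^ 24 :: unp k (c / 2 ^ 24) := by
  rw [unp_succ', ← Nat.and_two_pow_sub_one_eq_mod, ← Nat.shiftRight_eq_div_pow]; rfl

/-- packing a list of masks -/
noncomputable def pk (l : List ℕ) : ℕ :=
  List.rec 0 (fun a _ r => Nat.add a (Nat.shiftLeft r 24)) l

theorem pk_cons (a : ℕ) (l : List ℕ) : pk (a :: l) = a + pk l * 2 ^ 24 := by
  rw [← Nat.shiftLeft_eq]; rfl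

theorem unp_lt (k : ℕ) : ∀ c, ∀ m ∈ unp k c, m < 2 ^ 24 := by
  induction k with
  | zero => intro c m hm; cases hm
  | succ k ih =>
    intro c m hm
    rw [unp_succ, List.mem_cons] at hm
    rcases hm with rfl | hm
    · exact Nat.mod_lt _ (by norm_num)
    · exact ih _ m hm

theorem length_unp (k : ℕ) : ∀ c, (unp k c).length = k := by
  induction k with
  | zero => intro c; rfl
  | succ k ih => intro c; rw [unp_succ, List.length_cons, ih]

theorem unp_pk (l : List ℕ) (h : ∀ m ∈ l, m < 2 ^ 24) : unp l.length (pk l) = l := by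
  induction l with
  | nil => rfl
  | cons a l ih =>
    have ha := h a List.mem_cons_self
    rw [List.length_cons, unp_succ, pk_cons, Nat.add_mul_mod_self_right, Nat.mod_eq_of_lt ha,
      Nat.add_mul_div_right _ _ (by norm_num), Nat.div_eq_of_lt ha, zero_add,
      ih fun m hm => h m (List.mem_cons_of_mem _ hm)]

/-- insertion into a sorted list -/
noncomputable def insS (y : ℕ) (l : List ℕ) : List ℕ :=
  List.rec [y] (fun a l r => Bool.rec (a :: r) (y :: a :: l) (Nat.ble y a)) l

theorem insS_perm (y : ℕ) (l : List ℕ) : (insS y l).Perm (y :: l) := by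
  induction l with
  | nil => exact List.Perm.refl _
  | cons a l ih =>
    show (Bool.rec (a :: insS y l) (y :: a :: l) (Nat.ble y a) : List ℕ).Perm _
    cases Nat.ble y a
    · exact (ih.cons a).trans (List.Perm.swap y a l)
    · exact List.Perm.refl _

noncomputable def actLoop (M k : ℕ) : ℕ → List ℕ → ℕ :=
  Nat.rec (motive := fun _ => ℕ → List ℕ → ℕ) (fun _ acc => pk acc)
    (fun _ r c acc => force (appM M (Nat.land c 16777215)) fun y =>
      force (Nat.shiftRight c 24) fun c' => r c' (insS y acc)) k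

theorem actLoop_succ (M k c : ℕ) (acc : List ℕ) : actLoop M (k + 1) c acc =
    actLoop M k (Nat.shiftRight c 24) (insS (appM M (Nat.land c 16777215)) acc) := by
  have : actLoop M (k + 1) c acc = force (appM M (Nat.land c 16777215)) fun y =>
    force (Nat.shiftRight c 24) fun c' => actLoop M k c' (insS y acc) := rfl
  rw [this, force_eq, force_eq]

theorem actLoop_spec (M k : ℕ) : ∀ c acc, ∃ l, actLoop M k c acc = pk l ∧
    l.Perm ((unp k c).map (appM M) ++ acc) := by
  induction k with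
  | zero => intro c acc; exact ⟨acc, rfl, List.Perm.refl _⟩
  | succ k ih =>
    intro c acc
    obtain ⟨l, h1, h2⟩ := ih (Nat.shiftRight c 24) (insS (appM M (Nat.land c 16777215)) acc)
    refine ⟨l, (actLoop_succ M k c acc).trans h1, h2.trans ?_⟩
    rw [unp_succ', List.map_cons, List.cons_append]
    exact ((insS_perm _ _).append_left _).trans List.perm_middle

/-- the action of a packed permutation on codes of families -/
noncomputable def actS (k g c : ℕ) : ℕ := force (toM g) fun M => actLoop M k c []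

/-- the family coded by `c` -/
noncomputable def dec (k c : ℕ) : Finset (Finset GolayPt) := ((unp k c).map ofMask).toFinset

theorem mem_dec {k c : ℕ} {s : Finset GolayPt} : s ∈ dec k c ↔ ∃ m ∈ unp k c, ofMask m = s := by
  rw [dec, List.mem_toFinset, List.mem_map]

theorem ofMask_mem_dec {k c m : ℕ} (h : m ∈ unp k c) : ofMask m ∈ dec k c := mem_dec.2 ⟨m, h, rfl⟩

theorem forall_dec {k c : ℕ} {P : Finset GolayPt → Prop} :
    (∀ s ∈ dec k c, P s) ↔ ∀ m ∈ unp k c, P (ofMask m) :=
  ⟨fun h m hm => h _ (ofMask_mem_dec hm), fun h s hs => by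
    obtain ⟨m, hm, rfl⟩ := mem_dec.1 hs; exact h m hm⟩

theorem smul_dec {σ : Equiv.Perm GolayPt} {g : ℕ} (h : Rep σ g) (k c : ℕ) :
    σ • dec k c = dec k (actS k g c) := by
  obtain ⟨l, h1, h2⟩ := actLoop_spec (toM g) k c []
  rw [List.append_nil] at h2
  have h3 : l.length = k := by rw [h2.length_eq, List.length_map, length_unp]
  have h4 : unp k (actS k g c) = l := by
    rw [actS, force_eq, h1, ← h3]
    apply unp_pk
    intro m hm
    obtain ⟨a, -, rfl⟩ := List.mem_map.1 (h2.mem_iff.1 hm)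
    exact h.act_lt a
  ext s
  rw [mem_smul_finset, mem_dec, h4]
  simp only [mem_dec, h2.mem_iff, List.mem_map]
  constructor
  · rintro ⟨_, ⟨m, hm, rfl⟩, rfl⟩
    exact ⟨_, ⟨m, hm, rfl⟩, (h.smul_ofMask m).symm⟩
  · rintro ⟨_, ⟨m, hm, rfl⟩, rfl⟩
    exact ⟨_, ⟨m, hm, rfl⟩, h.smul_ofMask m⟩

/-- canonical codes -/
noncomputable def canon (k c : ℕ) : Bool :=
  Bool.rec false (strictInc (unp k c)) (Nat.beq (pk (unp k c)) c)

theorem canon_spec {k c : ℕ} (h : canon k c = true) :
    pk (unp k c) = c ∧ (unp k c).Pairwise (· < ·) := by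
  unfold canon at h
  cases h1 : Nat.beq (pk (unp k c)) c
  · rw [h1] at h; exact absurd h (by simp)
  · rw [h1] at h; exact ⟨Nat.eq_of_beq_eq_true h1, strictInc_pairwise h⟩

theorem nodup_of_canon {k c : ℕ} (h : canon k c = true) : ((unp k c).map ofMask).Nodup :=
  List.Nodup.map_on (fun a ha b hb => (ofMask_inj (unp_lt _ _ a ha) (unp_lt _ _ b hb)).1)
    ((canon_spec h).2.imp fun hab => ne_of_lt hab)

theorem card_dec {k c : ℕ} (h : canon k c = true) : (dec k c).card = k := by
  rw [dec, List.toFinset_card_of_nodup (nodup_of_canon h), List.length_map, length_unp]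

theorem dec_inj {k a b : ℕ} (ha : canon k a = true) (hb : canon k b = true)
    (h : dec k a = dec k b) : a = b := by
  have key : ∀ {a b : ℕ}, dec k a = dec k b → ∀ m ∈ unp k a, m ∈ unp k b := by
    intro a b h m hm
    obtain ⟨m', hm', e⟩ := mem_dec.1 (h ▸ ofMask_mem_dec hm)
    rwa [← (ofMask_inj (unp_lt _ _ _ hm') (unp_lt _ _ _ hm)).1 e]
  rw [← (canon_spec ha).1, ← (canon_spec hb).1,
    List.Pairwise.eq_of_mem_iff (canon_spec ha).2 (canon_spec hb).2
      fun m => ⟨key h m, key h.symm m⟩]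

/-- the generators fix the family coded by `c` -/
noncomputable def fixS (k c : ℕ) (gens : List ℕ) : Bool :=
  allL (fun g => Nat.beq (actS k g c) c) gens

theorem GensIn.stabS {H : Subgroup (Equiv.Perm GolayPt)} {gens : List ℕ} (hg : GensIn H gens)
    {k c : ℕ} (h : fixS k c gens = true) :
    GensIn (H ⊓ MulAction.stabilizer (Equiv.Perm GolayPt) (dec k c)) gens := fun g hg' =>
  ⟨(hg g hg').1, (hg g hg').2, MulAction.mem_stabilizer_iff.2 (by
    rw [smul_dec (hg g hg').1, Nat.eq_of_beq_eq_true (allL_iff.1 h g hg')])⟩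

theorem le_ncard_of_inv {gens : List ℕ} {k fuel c n : ℕ}
    (h : orbGe (actS k) gens fuel c (canon k) n = true) {S : Set (Finset (Finset GolayPt))}
    (h0 : dec k c ∈ S) (hg : ∀ g ∈ gens, ∃ σ, Rep σ g ∧ ∀ X ∈ S, σ • X ∈ S) : n ≤ S.ncard :=
  le_ncard_of_orbGe h (dec k) (fun _ _ => dec_inj) (Set.toFinite _) h0 fun g hg' x hx => by
    obtain ⟨σ, h1, h2⟩ := hg g hg'
    rw [← smul_dec h1]; exact h2 _ hx

/-- lower bound for an orbit of a subgroup of `↥M24` -/
theorem le_ncard_orbitS {K : Subgroup M24} {gens : List ℕ} (hg : GensIn (K.map M24.subtype) gens)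
    {k fuel c n : ℕ} (h : orbGe (actS k) gens fuel c (canon k) n = true) :
    n ≤ (MulAction.orbit K (dec k c)).ncard := by
  refine le_ncard_of_inv h (MulAction.mem_orbit_self _) fun g hg' => ⟨_, (hg g hg').1, ?_⟩
  obtain ⟨τ, hτ, e⟩ := (hg g hg').2
  rintro _ ⟨σ, rfl⟩
  refine ⟨⟨τ, hτ⟩ * σ, ?_⟩
  simp only [mul_smul, ← e]
  rfl

/-- exact size of a transitive family -/
theorem ncard_eq_of_closed {H : Subgroup (Equiv.Perm GolayPt)} {gens : List ℕ}
    (hg : GensIn H gens) (hH : H ≤ cl gens) {k fuel c n : ℕ}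
    (h : orbClosed (actS k) gens fuel c (canon k) n = true) :
    (MulAction.orbit H (dec k c)).ncard = n := by
  classical
  obtain ⟨h1, h2, h3, h4, h5⟩ := orbClosed_spec h
  have h6 : ((orbL (actS k) gens fuel c).map (dec k)).Nodup :=
    List.Nodup.map_on (fun a ha b hb => dec_inj (h3 a ha) (h3 b hb)) h1
  rw [← h2, ← List.length_map (dec k), ← List.toFinset_card_of_nodup h6, ← Set.ncard_coe_finset]
  congr 1
  ext X
  simp only [List.coe_toFinset, List.mem_map, Set.mem_ofPred_eq]
  constructor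
  · rintro ⟨⟨σ, hσ⟩, rfl⟩
    change ∃ a ∈ _, _ = σ • dec k c
    replace hσ := hH hσ
    rw [cl, ← Subgroup.mem_toSubmonoid, Subgroup.closure_toSubmonoid_of_finite] at hσ
    induction hσ using Submonoid.closure_induction_left with
    | one => exact ⟨c, h4, (one_smul _ _).symm⟩
    | mul_left x hx y _ ih =>
      obtain ⟨g, hg', rfl⟩ := hx
      obtain ⟨a, ha, e⟩ := ih
      exact ⟨_, h5 a ha g hg', by rw [mul_smul, ← e, smul_dec (hg g hg').1]⟩
  · rintro ⟨a, ha, rfl⟩
    refine orbL_sound (P := fun x => dec k x ∈ MulAction.orbit H (dec k c)) ?_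
      (MulAction.mem_orbit_self _) a ha
    rintro g hg' x ⟨σ, hσ⟩
    refine ⟨⟨_, (hg g hg').2⟩ * σ, ?_⟩
    simp only [mul_smul, hσ]
    exact smul_dec (hg g hg').1 k x

/-! ### The intersection invariant -/

/-- the distribution of intersection numbers of two families -/
def isz (S X : Finset (Finset GolayPt)) : ℕ := ∑ t ∈ S, ∑ u ∈ X, 64 ^ (t ∩ u).card

theorem isz_smul (g : Equiv.Perm GolayPt) (S X : Finset (Finset GolayPt)) :
    isz (g • S) (g • X) = isz S X := by
  rw [isz, smul_finset_def, sum_image fun _ _ _ _ h => MulAction.injective g h]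
  refine sum_congr rfl fun t _ => ?_
  rw [smul_finset_def (s := X), sum_image fun _ _ _ _ h => MulAction.injective g h]
  exact sum_congr rfl fun u _ => by rw [← smul_inter', card_smul']

/-- mask version of `isz` -/
noncomputable def iszM (k a b : ℕ) : ℕ :=
  ((unp k a).map fun m => ((unp k b).map fun m' => 64 ^ pop (Nat.land m m')).sum).sum

theorem isz_dec {k a b : ℕ} (ha : canon k a = true) (hb : canon k b = true) :
    isz (dec k a) (dec k b) = iszM k a b := by
  rw [isz, dec, List.sum_toFinset _ (nodup_of_canon ha), List.map_map, iszM]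
  congr 1
  refine List.map_congr_left fun m _ => ?_
  rw [Function.comp, dec, List.sum_toFinset _ (nodup_of_canon hb), List.map_map]
  congr 1
  refine List.map_congr_left fun m' _ => ?_
  rw [Function.comp, ← ofMask_land, card_ofMask]

/-- The orbits of a subgroup `K` of the stabiliser of a family on an invariant set `Ω`. -/
theorem suborbits {K : Subgroup M24} {gens : List ℕ} (hg : GensIn (K.map M24.subtype) gens)
    {k c : ℕ} (hc : canon k c = true) (hK : ∀ g ∈ K, g • dec k c = dec k c)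
    {Ω : Set (Finset (Finset GolayPt))} (hΩ : ∀ g ∈ K, ∀ X ∈ Ω, g • X ∈ Ω) {m : ℕ}
    (r n : Fin m → ℕ) (hr : ∀ i, dec k (r i) ∈ Ω) (hcan : ∀ i, canon k (r i) = true)
    (hn : ∀ i, orbGe (actS k) gens (n i) (r i) (canon k) (n i) = true)
    (hsep : ∀ i j, iszM k c (r i) = iszM k c (r j) → i = j) (htot : Ω.ncard ≤ ∑ i, n i) :
    (∀ i j, dec k (r j) ∈ MulAction.orbit K (dec k (r i)) → i = j) ∧
    (∀ i, (MulAction.orbit K (dec k (r i))).ncard = n i) ∧
      Ω = ⋃ i, MulAction.orbit K (dec k (r i)) := by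
  have hd : ∀ i j, dec k (r j) ∈ MulAction.orbit K (dec k (r i)) → i = j := by
    rintro i j ⟨g, hg⟩
    apply hsep
    rw [← isz_dec hc (hcan i), ← isz_dec hc (hcan j), ← hg, ← isz_smul (g.1 : Equiv.Perm GolayPt)]
    congr 1
    exact hK g g.2
  refine ⟨hd, orbits_of_lower_bounds Ω (Set.toFinite _) (fun i => dec k (r i)) n ?_ hd
    (fun i => le_ncard_orbitS hg (hn i)) htot⟩
  rintro i _ ⟨g, rfl⟩
  exact hΩ g g.2 _ (hr i)

theorem gensIn_map {K : Subgroup M24} {H : Subgroup (Equiv.Perm GolayPt)} {gens : List ℕ}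
    (hg : GensIn H gens) (h : ∀ σ ∈ H, ∃ hσ : σ ∈ M24, (⟨σ, hσ⟩ : M24) ∈ K) :
    GensIn (K.map M24.subtype) gens :=
  hg.mono fun σ hσ => by
    obtain ⟨h1, h2⟩ := h σ hσ
    exact ⟨⟨σ, h1⟩, h2, rfl⟩

/-- standard generators of `M24` -/
def gM : List ℕ := [shiftP, projInvP, cubeP]

theorem gensIn_gM : GensIn M24 gM := gensIn_M24 (by decide +kernel)

theorem M24_le_cl : M24 ≤ cl gM := by
  refine M24.M24_le fun p hp => (gensIn_gM.cl p ?_).2
  revert p; decide +kernel

/-- All permutations of a family indexed by `Fin n` are induced if all permutations of the index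
set lift. -/
theorem induces_all {n : ℕ} {S : Finset (Finset GolayPt)} (y : Fin n → Finset GolayPt)
    (hy : Function.Injective y) (hS : ∀ s, s ∈ S ↔ ∃ i, y i = s)
    (hq : ∀ q : Equiv.Perm (Fin n), ∃ h : M24, ∀ a, h • y a = y (q a)) (e : Equiv.Perm S) :
    ∃ g ∈ MulAction.stabilizer M24 S, ∀ t : S,
      (g : Equiv.Perm GolayPt) • (t : Finset GolayPt) = ((e t : S) : Finset GolayPt) := by
  let β : Fin n ≃ S := Equiv.ofBijective (fun i => ⟨y i, (hS _).2 ⟨i, rfl⟩⟩)
    ⟨fun a b h => hy (congrArg Subtype.val h), fun t => by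
      obtain ⟨i, hi⟩ := (hS _).1 t.2
      exact ⟨i, Subtype.ext hi⟩⟩
  have hβ : ∀ t : S, y (β.symm t) = t := fun t => congrArg Subtype.val (β.apply_symm_apply t)
  obtain ⟨h, hh⟩ := hq (β.trans (e.trans β.symm))
  have key : ∀ t : S, (h : Equiv.Perm GolayPt) • (t : Finset GolayPt) = (e t : S) := fun t => by
    have := hh (β.symm t)
    rwa [hβ, Equiv.trans_apply, Equiv.trans_apply, Equiv.apply_symm_apply, hβ] at this
  refine ⟨h, ?_, key⟩
  rw [MulAction.mem_stabilizer_iff]
  apply eq_of_subset_of_card_le _ (card_smul_finset h S).ge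
  intro s hs
  obtain ⟨t, ht, rfl⟩ := mem_smul_finset.1 hs
  exact (key ⟨t, ht⟩).symm ▸ (e ⟨t, ht⟩).2

end CL.M24S
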