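import Cfsg.Agent.Base
import Cfsg.Agent.M24S.SS

/-! Sextets, trios and quartets: standard members, uniqueness, transitivity, numbers and the
orders of the stabilisers. -/

set_option autoImplicit false

namespace CL.M24S
open Cfsg Finset CL.Golay
open scoped Pointwise

theorem forall_mem_smul {g : Equiv.Perm GolayPt} {S : Finset (Finset GolayPt)}
    {P : Finset GolayPt → Prop} : (∀ t ∈ g • S, P t) ↔ ∀ t ∈ S, P (g • t) :=
  ⟨fun h _ ht => h _ (smul_mem_smul_finset ht), fun h t ht => by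
    obtain ⟨u, hu, rfl⟩ := mem_smul_finset.1 ht; exact h u hu⟩

theorem card_stab_mul {X : Type*} [MulAction M24 X] (x : X) :
    (MulAction.orbit M24 x).ncard * Nat.card (MulAction.stabilizer M24 x) = 244823040 := by
  rw [← M24.card_M24, ← MulAction.index_stabilizer, mul_comm, Subgroup.card_mul_index]

/-! ### Sextets -/

/-- the sextet through the tetrad `8388615 = {0, 1, 2, ∞}` -/
def cS : ℕ := 11150382242010895008167239022564679587348520

theorem canon_cS : canon 6 cS = true := by decide +kernel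

theorem dec_mem_sextets {c : ℕ} (hc : canon 6 c = true)
    (h : ∀ m ∈ unp 6 c, pop m = 4 ∧ ∀ m' ∈ unp 6 c, m ≠ m' →
      isCode (m ||| m') = true ∧ pop (m ||| m') = 8) : dec 6 c ∈ sextets := by
  refine ⟨card_dec hc, forall_dec.2 fun m hm => by rw [card_ofMask, (h m hm).1],
    forall_dec.2 fun m hm => forall_dec.2 fun m' hm' hne => ?_⟩
  rw [← ofMask_or, ofMask_mem_octads_iff]
  exact (h m hm).2 m' hm' fun e => hne (e ▸ rfl)

theorem S0_mem : dec 6 cS ∈ sextets := dec_mem_sextets canon_cS (by decide +kernel)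

theorem smul_mem_sextets {g : Equiv.Perm GolayPt} (hg : g ∈ M24) {S : Finset (Finset GolayPt)}
    (hS : S ∈ sextets) : g • S ∈ sextets := by
  refine ⟨(card_smul_finset g S).trans hS.1, forall_mem_smul.2 fun t ht => ?_,
    forall_mem_smul.2 fun t ht => forall_mem_smul.2 fun u hu hne => ?_⟩
  · rw [card_smul', hS.2.1 t ht]
  · rw [← smul_union']
    exact smul_mem_octads hg (hS.2.2 t ht u hu fun e => hne (e ▸ rfl))

theorem disjoint_of_card_union {s t : Finset GolayPt} (h : (s ∪ t).card = s.card + t.card) :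
    Disjoint s t := card_union_eq_card_add_card.1 h

theorem eq_S0 {S : Finset (Finset GolayPt)} (hS : S ∈ sextets) (h : ofMask 8388615 ∈ S) :
    S = dec 6 cS := by
  refine eq_of_subset_of_card_le (fun u hu => ?_) (by rw [hS.1, S0_mem.1])
  by_cases hne : ofMask 8388615 = u
  · rw [← hne]; exact ofMask_mem_dec (by decide +kernel)
  have h1 := hS.2.2 _ h u hu hne
  have h2 : Disjoint (ofMask 8388615) u :=
    disjoint_of_card_union (by rw [h1.2, hS.2.1 _ h, hS.2.1 u hu])
  have key : allL (fun w => force w fun w => decide (8388615 &&& w = 8388615 →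
      w ^^^ (w &&& 8388615) ∈ unp 6 cS)) octL = true := by decide +kernel
  have h3 := of_decide_eq_true (univ_oct.forall key h1)
    ((ofMask_subset_iff (by norm_num)).1 (by rw [ofMask_toMask]; exact subset_union_left))
  have h4 := ofMask_mem_dec h3
  rwa [ofMask_sdiff, ofMask_toMask, union_sdiff_cancel_left h2] at h4

theorem exists_smul_S0 {S : Finset (Finset GolayPt)} (hS : S ∈ sextets) {t : Finset GolayPt}
    (ht : t ∈ S) : ∃ g ∈ M24, g • ofMask 8388615 = t ∧ g • dec 6 cS = S := by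
  obtain ⟨g, hg, h⟩ := M24.exists_smul_finset_eq t (ofMask 8388615)
    (by rw [hS.2.1 t ht, card_ofMask]; decide +kernel) (by rw [hS.2.1 t ht]; norm_num)
  refine ⟨g⁻¹, inv_mem hg, by rw [← h, inv_smul_smul], ?_⟩
  rw [← eq_S0 (smul_mem_sextets hg hS) (h ▸ smul_mem_smul_finset ht), inv_smul_smul]

theorem exists_smul_S0' {S : Finset (Finset GolayPt)} (hS : S ∈ sextets) :
    ∃ g : M24, g • dec 6 cS = S := by
  obtain ⟨t, ht⟩ := card_pos.1 (show 0 < S.card by rw [hS.1]; norm_num)
  obtain ⟨g, hg, -, h⟩ := exists_smul_S0 hS ht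
  exact ⟨⟨g, hg⟩, h⟩

theorem existsUnique_sextet {t : Finset GolayPt} (ht : t.card = 4) :
    ∃! S, S ∈ sextets ∧ t ∈ S := by
  obtain ⟨g, hg, h⟩ := M24.exists_smul_finset_eq (ofMask 8388615) t
    (by rw [ht, card_ofMask]; decide +kernel) (by rw [card_ofMask]; decide +kernel)
  refine ⟨g • dec 6 cS, ⟨smul_mem_sextets hg S0_mem,
    h ▸ smul_mem_smul_finset (ofMask_mem_dec (by decide +kernel))⟩, fun S hS => ?_⟩
  rw [← eq_S0 (smul_mem_sextets (inv_mem hg) hS.1), smul_inv_smul]
  rw [← inv_smul_eq_iff.2 h.symm]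
  exact smul_mem_smul_finset hS.2

theorem orbit_sextet {S : Finset (Finset GolayPt)} (hS : S ∈ sextets) :
    MulAction.orbit M24 S = sextets := by
  obtain ⟨g, rfl⟩ := exists_smul_S0' hS
  rw [MulAction.orbit_smul]
  ext X
  exact ⟨fun ⟨k, hk⟩ => hk ▸ smul_mem_sextets k.2 S0_mem, fun hX => exists_smul_S0' hX⟩

theorem ncard_sextets : sextets.ncard = 1771 := by
  rw [← orbit_sextet S0_mem]
  exact ncard_eq_of_closed gensIn_gM M24_le_cl (fuel := 1771) (by decide +kernel)

theorem card_stab_sextet {S : Finset (Finset GolayPt)} (hS : S ∈ sextets) :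
    Nat.card (MulAction.stabilizer M24 S) = 138240 := by
  have := card_stab_mul S
  rw [orbit_sextet hS, ncard_sextets] at this
  omega

/-! ### Trios -/

/-- the trio `{337856, 7903248, 8536111}` -/
def cT : ℕ := 2402701777519073634240

theorem canon_cT : canon 3 cT = true := by decide +kernel

theorem dec_mem_trios {c : ℕ} (hc : canon 3 c = true)
    (h : ∀ m ∈ unp 3 c, (isCode m = true ∧ pop m = 8) ∧ ∀ m' ∈ unp 3 c, m ≠ m' → m &&& m' = 0) :
    dec 3 c ∈ trios := by
  refine ⟨card_dec hc, forall_dec.2 fun m hm => ofMask_mem_octads_iff.2 (h m hm).1,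
    forall_dec.2 fun m hm => forall_dec.2 fun m' hm' hne => ?_⟩
  rw [disjoint_ofMask_iff (unp_lt _ _ m hm)]
  exact (h m hm).2 m' hm' fun e => hne (e ▸ rfl)

theorem T0_mem : dec 3 cT ∈ trios := dec_mem_trios canon_cT (by decide +kernel)

theorem smul_mem_trios {g : Equiv.Perm GolayPt} (hg : g ∈ M24) {T : Finset (Finset GolayPt)}
    (hT : T ∈ trios) : g • T ∈ trios := by
  refine ⟨(card_smul_finset g T).trans hT.1,
    forall_mem_smul.2 fun t ht => smul_mem_octads hg (hT.2.1 t ht),
    forall_mem_smul.2 fun t ht => forall_mem_smul.2 fun u hu hne => ?_⟩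
  rw [disjoint_iff_inter_eq_empty, ← smul_inter',
    disjoint_iff_inter_eq_empty.1 (hT.2.2 t ht u hu fun e => hne (e ▸ rfl)), smul_finset_empty]

theorem compl_union_mem_octads {o o' : Finset GolayPt} (ho : o ∈ octads) (ho' : o' ∈ octads)
    (h : Disjoint o o') : (o ∪ o')ᶜ ∈ octads := by
  refine ⟨compl_mem_CSet ?_, ?_⟩
  · have := symmDiff_mem_CSet ho.1 ho'.1
    rwa [h.symmDiff_eq_sup] at this
  · rw [card_compl, card_union_of_disjoint h, ho.2, ho'.2, card_pt]

theorem eq_T0 {T : Finset (Finset GolayPt)} (hT : T ∈ trios) (h : ofMask 8536111 ∈ T)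
    (h' : ofMask 337856 ∈ T) : T = dec 3 cT := by
  refine eq_of_subset_of_card_le (fun u hu => ?_) (by rw [hT.1, T0_mem.1])
  by_cases h1 : ofMask 8536111 = u
  · rw [← h1]; exact ofMask_mem_dec (by decide +kernel)
  by_cases h2 : ofMask 337856 = u
  · rw [← h2]; exact ofMask_mem_dec (by decide +kernel)
  have h3 : u ⊆ ofMask 7903248 := by
    have e : ofMask 7903248 = (ofMask 8536111 ∪ ofMask 337856)ᶜ := by
      rw [← ofMask_or, ← ofMask_compl]; rfl
    rw [e, subset_compl_iff_disjoint_left, disjoint_union_left]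
    exact ⟨hT.2.2 _ h u hu h1, hT.2.2 _ h' u hu h2⟩
  rw [eq_of_subset_of_card_le h3 (by rw [(hT.2.1 u hu).2, card_ofMask]; decide +kernel)]
  exact ofMask_mem_dec (by decide +kernel)

theorem exists_smul_T0 {T : Finset (Finset GolayPt)} (hT : T ∈ trios) :
    ∃ g : M24, g • dec 3 cT = T := by
  obtain ⟨o, ho, o', ho', hne⟩ := one_lt_card.1 (show 1 < T.card by rw [hT.1]; norm_num)
  obtain ⟨g, hg, h⟩ := step univ_oct (inv_sg _) ggO crOO (orb_o (hT.2.1 o ho)) (hT.2.1 o' ho')
    (r := 337856) (by decide) (by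
      rw [sg_one, disjoint_iff_inter_eq_empty.1 (hT.2.2 o ho o' ho' hne), card_empty]
      decide +kernel)
  simp only [smulL_cons, smulL_nil, List.map_cons, List.map_nil, List.cons.injEq, and_true] at h
  refine ⟨⟨g, hg⟩⁻¹, ?_⟩
  rw [inv_smul_eq_iff]
  exact (eq_T0 (smul_mem_trios hg hT) (h.2 ▸ smul_mem_smul_finset ho)
    (h.1 ▸ smul_mem_smul_finset ho')).symm

theorem orbit_trio {T : Finset (Finset GolayPt)} (hT : T ∈ trios) :
    MulAction.orbit M24 T = trios := by
  obtain ⟨g, rfl⟩ := exists_smul_T0 hT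
  rw [MulAction.orbit_smul]
  ext X
  exact ⟨fun ⟨k, hk⟩ => hk ▸ smul_mem_trios k.2 T0_mem, fun hX => exists_smul_T0 hX⟩

theorem ncard_trios : trios.ncard = 3795 := by
  rw [← orbit_trio T0_mem]
  exact ncard_eq_of_closed gensIn_gM M24_le_cl (fuel := 3795) (by decide +kernel)

theorem card_stab_trio {T : Finset (Finset GolayPt)} (hT : T ∈ trios) :
    Nat.card (MulAction.stabilizer M24 T) = 64512 := by
  have := card_stab_mul T
  rw [orbit_trio hT, ncard_trios] at this
  omega

end CL.M24S
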