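import Cfsg.Agent.Base
import Cfsg.Agent.Spor.GolaySteiner
import Cfsg.Agent.M24S.Sextet

/-! Coset leaders of the length-24 code and the punctured code of length 23. -/

set_option autoImplicit false

namespace CL.M24S
open Cfsg Finset CL.Golay
open scoped Pointwise

/-- every set is congruent modulo the code to a set with at most four points -/
theorem exists_leader (s : Finset GolayPt) : ∃ t : Finset GolayPt, t.card ≤ 4 ∧
    symmDiff s t ∈ CSet := by
  induction h : s.card using Nat.strong_induction_on generalizing s with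
  | _ n ih =>
    by_cases h4 : s.card ≤ 4
    · exact ⟨s, h4, by rw [symmDiff_self]; exact empty_mem_CSet⟩
    obtain ⟨u, hu, hu5⟩ := exists_subset_card_eq (show 5 ≤ s.card by omega)
    obtain ⟨o, ho, huo⟩ := exists_octad_superset hu5.le
    have h1 := card_symmDiff_add s o
    have h2 := card_le_card (subset_inter hu huo)
    rw [ho.2] at h1
    obtain ⟨t, ht, h3⟩ := ih _ (by omega) (symmDiff s o) rfl
    refine ⟨t, ht, ?_⟩
    have := symmDiff_mem_CSet h3 ho.1
    rwa [symmDiff_right_comm, symmDiff_symmDiff_cancel_right] at this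

theorem symmDiff_mem_of {s t u : Finset GolayPt} (ht : symmDiff s t ∈ CSet)
    (hu : symmDiff s u ∈ CSet) : symmDiff t u ∈ CSet := by
  have := symmDiff_mem_CSet ht hu
  rwa [symmDiff_symmDiff_symmDiff_comm, symmDiff_self, bot_symmDiff] at this

theorem eq_of_symmDiff_mem {t u : Finset GolayPt} (h : symmDiff t u ∈ CSet)
    (hc : t.card + u.card < 8) : t = u := by
  have h1 := card_symmDiff_add t u
  exact symmDiff_eq_bot.1 (eq_empty_of_card_lt h (by omega))

theorem mem_sextet_of_union {S : Finset (Finset GolayPt)} (hS : S ∈ sextets)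
    {t u : Finset GolayPt} (ht : t ∈ S) (hu : u.card = 4) (h : t ∪ u ∈ octads) : u ∈ S := by
  obtain ⟨g, hg, rfl, rfl⟩ := exists_smul_S0 hS ht
  rw [← inv_smul_mem_iff]
  have h1 : ofMask 8388615 ∪ g⁻¹ • u ∈ octads := by
    have := smul_mem_octads (inv_mem hg) h
    rwa [smul_union', inv_smul_smul] at this
  have h2 : Disjoint (ofMask 8388615) (g⁻¹ • u) :=
    disjoint_of_card_union (by rw [h1.2, card_smul', hu, card_ofMask]; decide +kernel)
  have key : allL (fun w => force w fun w => decide (8388615 &&& w = 8388615 →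
      w ^^^ (w &&& 8388615) ∈ unp 6 cS)) octL = true := by decide +kernel
  have h3 := of_decide_eq_true (univ_oct.forall key h1)
    ((ofMask_subset_iff (by norm_num)).1 (by rw [ofMask_toMask]; exact subset_union_left))
  have h4 := ofMask_mem_dec h3
  rwa [ofMask_sdiff, ofMask_toMask, union_sdiff_cancel_left h2] at h4

/-- the tetrads congruent to a tetrad form its sextet -/
theorem mem_sextet_iff {S : Finset (Finset GolayPt)} (hS : S ∈ sextets) {t u : Finset GolayPt}
    (ht : t ∈ S) : u ∈ S ↔ u.card ≤ 4 ∧ symmDiff t u ∈ CSet := by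
  have h4 := hS.2.1 t ht
  constructor
  · intro hu
    refine ⟨(hS.2.1 u hu).le, ?_⟩
    by_cases h : t = u
    · rw [h, symmDiff_self]; exact empty_mem_CSet
    · have h1 := hS.2.2 t ht u hu h
      rw [(disjoint_of_card_union (by rw [h1.2, h4, hS.2.1 u hu])).symmDiff_eq_sup]
      exact h1.1
  · rintro ⟨h1, h2⟩
    by_cases h : t = u
    · exact h ▸ ht
    have h3 := card_symmDiff_add t u
    have h5 : ¬ (symmDiff t u).card < 8 := fun h' =>
      h (symmDiff_eq_bot.1 (eq_empty_of_card_lt h2 h'))
    have h6 : Disjoint t u := disjoint_iff_inter_eq_empty.2 (card_eq_zero.1 (by omega))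
    rw [h6.symmDiff_eq_sup] at h2 h3 h5
    exact mem_sextet_of_union hS ht (by omega) ⟨h2, by change (t ⊔ u).card = 8; omega⟩

theorem sub_mem_iff (w v : GolayPt → ZMod 2) :
    w - v ∈ golayCode ↔ symmDiff (support₂ w) (support₂ v) ∈ CSet := by
  rw [← support₂_add, support_mem_CSet_iff]
  have : w - v = w + v := funext fun p => CharTwo.sub_eq_add _ _
  rw [this]

theorem ncard_words (P : Finset GolayPt → Prop) :
    {v : GolayPt → ZMod 2 | P (support₂ v)}.ncard = {t | P t}.ncard := by
  rw [← Set.ncard_image_of_injective _ support₂_injective]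
  congr 1
  ext t
  exact ⟨fun ⟨v, hv, e⟩ => e ▸ hv, fun h => ⟨ind t, by simpa [support_ind] using h, support_ind t⟩⟩

/-! ### The punctured code -/

/-- the punctured word of a set -/
def punc (s : Finset GolayPt) : ZMod 23 → ZMod 2 := fun x => ind s (some x)

theorem mem_punc_iff {u : ZMod 23 → ZMod 2} :
    (∃ w ∈ golayCode, ∀ x : ZMod 23, u x = w (some x)) ↔ ∃ s ∈ CSet, punc s = u :=
  ⟨fun ⟨w, hw, h⟩ => ⟨support₂ w, support_mem_CSet_iff.2 hw, funext fun x => by
      rw [punc, ind_support, h]⟩,
    fun ⟨s, hs, h⟩ => ⟨ind s, mem_CSet_iff.1 hs, fun x => h ▸ rfl⟩⟩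

theorem hammingNorm_punc (s : Finset GolayPt) : hammingNorm (punc s) = (s.erase none).card := by
  rw [← card_support₂, ← card_map Function.Embedding.some]
  congr 1
  ext p
  cases p <;> simp [punc, ind]

theorem punc_symmDiff (s t : Finset GolayPt) : punc (symmDiff s t) = punc s - punc t := by
  funext x
  rw [Pi.sub_apply, CharTwo.sub_eq_add, punc, ind_symmDiff]; rfl

theorem seven_le {s : Finset GolayPt} (hs : s ∈ CSet) (h : punc s ≠ 0) :
    7 ≤ hammingNorm (punc s) := by
  rw [hammingNorm_punc]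
  have h1 := pred_card_le_card_erase (s := s) (a := none)
  by_contra h2
  apply h
  rw [eq_empty_of_card_lt hs (by omega)]
  funext x; simp [punc, ind]

theorem punc_injOn : Set.InjOn punc CSet := fun s hs t ht h => by
  have h1 := hammingNorm_punc (symmDiff s t)
  rw [punc_symmDiff, h, sub_self, hammingNorm_zero] at h1
  have h2 := pred_card_le_card_erase (s := symmDiff s t) (a := none)
  exact symmDiff_eq_bot.1 (eq_empty_of_card_lt (symmDiff_mem_CSet hs ht) (by omega))

theorem ncard_punc (k : ℕ) : {u : ZMod 23 → ZMod 2 | u ∈ {u : ZMod 23 → ZMod 2 |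
    ∃ w ∈ golayCode, ∀ x : ZMod 23, u x = w (some x)} ∧ hammingNorm u = k}.ncard =
      cntL (fun w => Nat.beq (pop (Nat.land w 8388607)) k) (codeL fun _ => true) := by
  have hU : Univ CSet (codeL fun _ => true) :=
    ⟨fun _ hg _ hs => smul_mem_CSet hg hs, fun w => by rw [(codeL_spec _).1]; simp,
      (codeL_spec _).2⟩
  have h1 := hU.ncard_eq (S := {s | s ∈ CSet ∧ (s.erase none).card = k})
    (f := fun w => Nat.beq (pop (Nat.land w 8388607)) k) fun w _ => by
      have : (ofMask w).erase none = ofMask (Nat.land w 8388607) := by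
        rw [ofMask_land, ← sdiff_singleton_eq_erase, sdiff_eq_inter_compl,
          ← ofMask_two_pow_idx none, ← ofMask_compl]; rfl
      rw [Set.mem_ofPred_eq, this, card_ofMask, Nat.beq_eq]
  simp only [force_eq] at h1
  rw [← h1, ← Set.InjOn.ncard_image (punc_injOn.mono fun s hs => hs.1)]
  congr 1
  ext u
  simp only [Set.mem_ofPred_eq, mem_punc_iff, Set.mem_image]
  constructor
  · rintro ⟨⟨s, hs, rfl⟩, h⟩; exact ⟨s, ⟨hs, by rwa [← hammingNorm_punc]⟩, rfl⟩
  · rintro ⟨s, ⟨hs, h⟩, rfl⟩; exact ⟨⟨s, hs, rfl⟩, by rwa [hammingNorm_punc]⟩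

end CL.M24S
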