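import Cfsg.Agent.Base
import Cfsg.Agent.Spor.M12
import Cfsg.Agent.M24S.Enum

/-! The action of an octad stabiliser on its octad. -/

set_option autoImplicit false

namespace CL.M24S
open Cfsg Finset CL.Golay
open scoped Pointwise

/-- restriction of the set stabiliser to the set -/
def resHom (s : Finset GolayPt) : M12.stabS s →* Equiv.Perm s where
  toFun g := g.1.subtypePerm (smul_eq_self_iff.1 g.2.2)
  map_one' := rfl
  map_mul' _ _ := rfl

theorem resHom_apply (s : Finset GolayPt) (g : M12.stabS s) (x : s) :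
    ((resHom s g x : s) : GolayPt) = g.1 x := rfl

theorem mem_ker_resHom {s : Finset GolayPt} {g : M12.stabS s} :
    g ∈ (resHom s).ker ↔ ∀ x ∈ s, g.1 x = x :=
  ⟨fun h x hx => congrArg Subtype.val (Equiv.congr_fun h ⟨x, hx⟩),
    fun h => Equiv.ext fun x => Subtype.ext (h x x.2)⟩

theorem fixing_le_stabS (s : Finset GolayPt) :
    M24 ⊓ fixingSubgroup (Equiv.Perm GolayPt) (s : Set GolayPt) ≤ M12.stabS s := fun g hg =>
  ⟨hg.1, smul_eq_self_of_mapsTo fun p hp => by
    rwa [show g p = p from (mem_fixingSubgroup_iff _).1 hg.2 p hp]⟩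

theorem card_ker_resHom {o : Finset GolayPt} (ho : o ∈ octads) : Nat.card (resHom o).ker = 16 := by
  rw [← M12.card_fixing_octad ho]
  refine Nat.card_congr (Chain.equivOfMemIff _ _ (fixing_le_stabS o) fun g => ?_).toEquiv
  rw [mem_ker_resHom, Subgroup.mem_inf, mem_fixingSubgroup_iff]
  exact ⟨fun h => ⟨g.2.1, h⟩, fun h => h.2⟩

theorem card_range_resHom {o : Finset GolayPt} (ho : o ∈ octads) :
    Nat.card (resHom o).range = 20160 := by
  have := (resHom o).ker.card_mul_index
  rw [Subgroup.index_ker, card_ker_resHom ho, M12.card_stabS_octad ho] at this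
  omega

theorem range_resHom {o : Finset GolayPt} (ho : o ∈ octads) :
    (resHom o).range = alternatingGroup o := by
  apply Equiv.Perm.eq_alternatingGroup_of_index_eq_two
  have := (resHom o).range.card_mul_index
  rw [card_range_resHom ho, Nat.card_perm, Nat.card_eq_fintype_card, Fintype.card_coe, ho.2] at this
  norm_num [Nat.factorial] at this
  omega

theorem card_stab_octad_point {o : Finset GolayPt} (ho : o ∈ octads) {p : GolayPt} (hp : p ∉ o) :
    Nat.card (M12.stabS o ⊓ MulAction.stabilizer (Equiv.Perm GolayPt) p : Subgroup _) = 20160 := by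
  rw [← card_fix_xO, ← (orb_xo ho hp).card_fix]
  congr 2
  ext g
  simp only [Subgroup.mem_inf, M12.mem_stabS, Chain.mem_fix, List.mem_cons, List.not_mem_nil,
    or_false, forall_eq_or_imp, forall_eq, smul_singleton_eq_iff, MulAction.mem_stabilizer_iff,
    Equiv.Perm.smul_def]
  tauto

theorem fixing_inf_eq_bot {o : Finset GolayPt} (ho : o ∈ octads) {p : GolayPt} (hp : p ∉ o) :
    (M24 ⊓ fixingSubgroup (Equiv.Perm GolayPt) (o : Set GolayPt)) ⊓
      (M12.stabS o ⊓ MulAction.stabilizer (Equiv.Perm GolayPt) p) = ⊥ :=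
  eq_bot_iff.2 fun _ hg => eq_one_of_fix_octad_point hg.1.1 ho
    ((mem_fixingSubgroup_iff _).1 hg.1.2) hp hg.2.2

theorem octad_point_equiv {o : Finset GolayPt} (ho : o ∈ octads) {p : GolayPt} (hp : p ∉ o) :
    Nonempty (↥(M12.stabS o ⊓ MulAction.stabilizer (Equiv.Perm GolayPt) p) ≃*
      alternatingGroup o) := by
  let φ : ↥(M12.stabS o ⊓ MulAction.stabilizer (Equiv.Perm GolayPt) p) →* alternatingGroup o :=
    ((resHom o).comp (Subgroup.inclusion inf_le_left)).codRestrict _
      fun g => range_resHom ho ▸ ⟨_, rfl⟩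
  have hi : Function.Injective φ := by
    rw [injective_iff_map_eq_one]
    intro g hg
    exact Subtype.ext (eq_one_of_fix_octad_point g.2.1.1 ho
      (mem_ker_resHom.1 (congrArg Subtype.val hg)) hp g.2.2)
  exact ⟨MulEquiv.ofBijective φ (hi.bijective_of_nat_card_le (by
    rw [card_stab_octad_point ho hp, ← range_resHom ho, card_range_resHom ho]))⟩

theorem fixing_sup_eq {o : Finset GolayPt} (ho : o ∈ octads) {p : GolayPt} (hp : p ∉ o) :
    (M24 ⊓ fixingSubgroup (Equiv.Perm GolayPt) (o : Set GolayPt)) ⊔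
      (M12.stabS o ⊓ MulAction.stabilizer (Equiv.Perm GolayPt) p) = M12.stabS o := by
  refine le_antisymm (sup_le (fixing_le_stabS o) inf_le_left) fun g hg => ?_
  have hs : ∃ k : ↥(M12.stabS o ⊓ MulAction.stabilizer (Equiv.Perm GolayPt) p),
      resHom o (Subgroup.inclusion inf_le_left k) = resHom o ⟨g, hg⟩ := by
    let φ : ↥(M12.stabS o ⊓ MulAction.stabilizer (Equiv.Perm GolayPt) p) →* (resHom o).range :=
      (resHom o).rangeRestrict.comp (Subgroup.inclusion inf_le_left)
    have hi : Function.Injective φ := by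
      rw [injective_iff_map_eq_one]
      intro g hg
      exact Subtype.ext (eq_one_of_fix_octad_point g.2.1.1 ho
        (mem_ker_resHom.1 (congrArg Subtype.val hg)) hp g.2.2)
    obtain ⟨k, hk⟩ := (hi.bijective_of_nat_card_le (by
      rw [card_stab_octad_point ho hp, card_range_resHom ho])).2 ⟨_, ⟨g, hg⟩, rfl⟩
    exact ⟨k, congrArg Subtype.val hk⟩
  obtain ⟨k, hk⟩ := hs
  have h1 : (⟨g, hg⟩ : M12.stabS o) * (Subgroup.inclusion inf_le_left k)⁻¹ ∈ (resHom o).ker := by
    rw [MonoidHom.mem_ker, map_mul, map_inv, hk, mul_inv_cancel]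
  have h2 : g = g * k.1⁻¹ * k.1 := by simp
  rw [h2]
  exact Subgroup.mul_mem_sup ⟨M24.mul_mem hg.1 (M24.inv_mem k.2.1.1),
    (mem_fixingSubgroup_iff _).2 (mem_ker_resHom.1 h1)⟩ k.2

end CL.M24S
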