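import Cfsg.Agent.Base
import Cfsg.Agent.M24S.Sextet

/-! Quartets of a dodecad. -/

set_option autoImplicit false

namespace CL.M24S
open Cfsg Finset CL.Golay
open scoped Pointwise

/-- intersection numbers, and whether the set lies in an octad with the first member -/
noncomputable def sgq (l : List (Finset GolayPt)) (x : Finset GolayPt) : ℕ :=
  sgo (l.take 1) x + 1024 * sg l x

theorem inv_sgq (l0 : List ℕ) :
    Inv sgq l0 fun w => Nat.add (sgoM (l0.take 1) w) (Nat.mul 1024 (sgM l0 w)) where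
  inv := fun g hg l x => by
    rw [sgq, sgq, (inv_sg l0).inv g hg, ← (inv_sgo l0).inv g hg (l.take 1), smulL, smulL,
      List.map_take]
  eq := fun w hw => by
    rw [sgq, (inv_sg l0).eq w hw, ← List.map_take, (inv_sgo _).eq w hw]; rfl

theorem smul_mem_hexadsOn {g : Equiv.Perm GolayPt} (hg : g ∈ M24) {d h : Finset GolayPt}
    (hh : h ∈ hexadsOn d) : g • h ∈ hexadsOn (g • d) := by
  obtain ⟨h1, o, ho, rfl⟩ := hh
  exact ⟨by rw [card_smul', h1], g • o, smul_mem_octads hg ho, (smul_inter' _ _ _).symm⟩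

theorem smul_mem_quartets {g : Equiv.Perm GolayPt} (hg : g ∈ M24) {d : Finset GolayPt}
    {Q : Finset (Finset GolayPt)} (hQ : Q ∈ quartets d) : g • Q ∈ quartets (g • d) := by
  refine ⟨(card_smul_finset g Q).trans hQ.1, forall_mem_smul.2 fun t ht => ?_,
    forall_mem_smul.2 fun t ht => forall_mem_smul.2 fun u hu hne => ?_⟩
  · rw [card_smul', smul_subset_smul']; exact hQ.2.1 t ht
  · rw [← smul_union']
    exact smul_mem_hexadsOn hg (hQ.2.2 t ht u hu fun e => hne (e ▸ rfl))

/-- test for the hexads on the standard dodecad -/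
noncomputable def hexB (w : ℕ) : Bool :=
  Nat.beq (pop w) 6 && anyL (fun o => Nat.beq (Nat.land o 8449646) w) octL

theorem hexB_iff {w : ℕ} (hw : w < 2 ^ 24) :
    ofMask w ∈ hexadsOn (ofMask 8449646) ↔ hexB w = true := by
  have : hexB w = true ↔ pop w = 6 ∧ ∃ o ∈ octL, o &&& 8449646 = w := by
    rw [hexB, Bool.and_eq_true, anyL_iff]
    exact and_congr (Nat.beq_eq ▸ Iff.rfl) (exists_congr fun o => and_congr_right fun _ =>
      ⟨Nat.eq_of_beq_eq_true, fun h => Nat.beq_eq.symm ▸ h⟩)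
  rw [this, ← card_ofMask]
  refine and_congr_right fun _ => ⟨?_, ?_⟩
  · rintro ⟨o, ho, h⟩
    refine ⟨toMask o, univ_oct.toMask_mem ho,
      (ofMask_inj (Nat.and_lt_two_pow _ (by norm_num)) hw).1 ?_⟩
    rwa [ofMask_and, ofMask_toMask]
  · rintro ⟨o, ho, rfl⟩
    exact ⟨ofMask o, ((univ_oct.mem_iff o).1 ho).2, (ofMask_and _ _).symm⟩

/-- the quartet `{608, 3080, 57344, 8388614}` -/
def cQ : ℕ := 39614109607471967130812940896

theorem canon_cQ : canon 4 cQ = true := by decide +kernel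

theorem dec_mem_quartets {c : ℕ} (hc : canon 4 c = true)
    (h : ∀ m ∈ unp 4 c, (pop m = 3 ∧ m &&& 8449646 = m) ∧ ∀ m' ∈ unp 4 c, m ≠ m' →
      hexB (m ||| m') = true) : dec 4 c ∈ quartets (ofMask 8449646) := by
  refine ⟨card_dec hc, forall_dec.2 fun m hm => ?_,
    forall_dec.2 fun m hm => forall_dec.2 fun m' hm' hne => ?_⟩
  · rw [card_ofMask, ofMask_subset_iff (unp_lt _ _ m hm)]; exact (h m hm).1
  · rw [← ofMask_or, hexB_iff (Nat.or_lt_two_pow (unp_lt _ _ m hm) (unp_lt _ _ m' hm'))]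
    exact (h m hm).2 m' hm' fun e => hne (e ▸ rfl)

theorem Q0_mem : dec 4 cQ ∈ quartets (ofMask 8449646) :=
  dec_mem_quartets canon_cQ (by decide +kernel)

theorem eq_Q0 {Q : Finset (Finset GolayPt)} (hQ : Q ∈ quartets (ofMask 8449646))
    (h : ofMask 8388614 ∈ Q) (h' : ofMask 608 ∈ Q) : Q = dec 4 cQ := by
  refine eq_of_subset_of_card_le (fun u hu => ?_) (by rw [hQ.1, Q0_mem.1])
  by_cases h1 : ofMask 8388614 = u
  · rw [← h1]; exact ofMask_mem_dec (by decide +kernel)
  by_cases h2 : ofMask 608 = u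
  · rw [← h2]; exact ofMask_mem_dec (by decide +kernel)
  have key : allL (fun w => force w fun w => decide (w &&& 8449646 = w →
      hexB (8388614 ||| w) = true → hexB (608 ||| w) = true → w ∈ unp 4 cQ)) (subL 3) = true := by
    decide +kernel
  have hl := toMask_lt u
  have h3 := of_decide_eq_true (univ_sub3.forall key (hQ.2.1 u hu).1)
    ((ofMask_subset_iff hl).1 (by rw [ofMask_toMask]; exact (hQ.2.1 u hu).2))
    ((hexB_iff (Nat.or_lt_two_pow (by norm_num) hl)).1 (by
      rw [ofMask_or, ofMask_toMask]; exact hQ.2.2 _ h u hu h1))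
    ((hexB_iff (Nat.or_lt_two_pow (by norm_num) hl)).1 (by
      rw [ofMask_or, ofMask_toMask]; exact hQ.2.2 _ h' u hu h2))
  have h4 := ofMask_mem_dec h3
  rwa [ofMask_toMask] at h4

theorem crD3 : checkReps (subL 3) (sgM [8449646]) gD [8388614] 221 = true := by decide +kernel

/-- generators of the stabiliser of [8388614, 8449646] (order 432) -/
def gtD : List ℕ := [966480292850093643735187175667762247, 104617008719628173738623743506701361]
theorem ggtD : goodGens [8388614, 8449646] gtD = true := by decide +kernel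
theorem crtD : checkReps (subL 3) (fun w => Nat.add (sgoM ([8388614, 8449646].take 1) w)
    (Nat.mul 1024 (sgM [8388614, 8449646] w))) gtD [608] 13 = true := by decide +kernel

theorem orb_td {d t : Finset GolayPt} (hd : d ∈ dodecads) (ht : t.card = 3) (htd : t ⊆ d) :
    Orb [t, d] ([8388614, 8449646].map ofMask) :=
  step univ_sub3 (inv_sg _) ggD crD3 (orb_d hd) ht (by decide)
    (by rw [sg_one, inter_eq_right.2 htd, ht]; decide +kernel)

theorem orb_utd {d t u : Finset GolayPt} (hd : d ∈ dodecads) (ht : t.card = 3) (hu : u.card = 3)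
    (h : t ∪ u ∈ hexadsOn d) : Orb [u, t, d] ([608, 8388614, 8449646].map ofMask) := by
  obtain ⟨h1, o, ho, h2⟩ := h
  have h3 : t ∪ u ⊆ d := h2 ▸ inter_subset_right
  have h4 : t ∩ u = ∅ :=
    disjoint_iff_inter_eq_empty.1 (disjoint_of_card_union (by rw [h1, ht, hu]))
  refine step univ_sub3 (inv_sgq _) ggtD crtD (orb_td hd ht (union_subset_left h3)) hu (by decide) ?_
  have h5 : ∃ o ∈ octads, unL [t] ∪ u ⊆ o :=
    ⟨o, ho, by rw [show unL [t] = t from union_empty t, ← h2]; exact inter_subset_left⟩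
  simp only [sgq, sgo, List.take_succ_cons, List.take_zero, sg, h4, card_empty, h5, if_true,
    inter_eq_right.2 (union_subset_right h3), hu]
  decide +kernel

theorem existsUnique_quartet {d t u : Finset GolayPt} (hd : d ∈ dodecads) (ht : t.card = 3)
    (hu : u.card = 3) (h : t ∪ u ∈ hexadsOn d) : ∃! Q, Q ∈ quartets d ∧ t ∈ Q ∧ u ∈ Q := by
  obtain ⟨g, hg, e⟩ := (orb_utd hd ht hu h).symm
  simp only [smulL_cons, smulL_nil, List.map_cons, List.map_nil, List.cons.injEq, and_true] at e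
  obtain ⟨rfl, rfl, rfl⟩ := e
  refine ⟨g • dec 4 cQ, ⟨smul_mem_quartets hg Q0_mem,
    smul_mem_smul_finset (ofMask_mem_dec (by decide +kernel)),
    smul_mem_smul_finset (ofMask_mem_dec (by decide +kernel))⟩, fun Q hQ => ?_⟩
  have h1 := smul_mem_quartets (inv_mem hg) hQ.1
  rw [inv_smul_smul] at h1
  rw [← eq_Q0 h1 (mem_inv_smul_finset_iff.2 hQ.2.1) (mem_inv_smul_finset_iff.2 hQ.2.2),
    smul_inv_smul]

theorem exists_smul_Q0 {d : Finset GolayPt} (hd : d ∈ dodecads) {Q : Finset (Finset GolayPt)}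
    (hQ : Q ∈ quartets d) : ∃ g : M24, g • ofMask 8449646 = d ∧ g • dec 4 cQ = Q := by
  obtain ⟨t, ht, u, hu, hne⟩ := one_lt_card.1 (show 1 < Q.card by rw [hQ.1]; norm_num)
  obtain ⟨g, hg, e⟩ := orb_utd hd (hQ.2.1 t ht).1 (hQ.2.1 u hu).1 (hQ.2.2 t ht u hu hne)
  simp only [smulL_cons, smulL_nil, List.map_cons, List.map_nil, List.cons.injEq, and_true] at e
  refine ⟨⟨g, hg⟩⁻¹, inv_smul_eq_iff.2 e.2.2.symm, inv_smul_eq_iff.2 ?_⟩
  exact (eq_Q0 (e.2.2 ▸ smul_mem_quartets hg hQ) (e.2.1 ▸ smul_mem_smul_finset ht)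
    (e.1 ▸ smul_mem_smul_finset hu)).symm

/-- generators of the stabiliser of the standard quartet (order 432) -/
def gQ : List ℕ := [591481200452968135058774694685292000, 566294468177014377813325830741409233]

theorem gensIn_gQ : GensIn (Chain.fix M24 ([8449646].map ofMask) ⊓
    MulAction.stabilizer (Equiv.Perm GolayPt) (dec 4 cQ)) gQ :=
  (gensIn_fix (by decide +kernel)).stabS (by decide +kernel)

theorem enum_gQ : orbCount mulP gQ 432 idP (fun _ => true) 432 = true := by decide +kernel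

theorem orbit_Q0 : MulAction.orbit (Chain.fix M24 ([8449646].map ofMask)) (dec 4 cQ) =
    quartets (ofMask 8449646) := by
  ext X
  constructor
  · rintro ⟨g, rfl⟩
    have := smul_mem_quartets g.2.1 Q0_mem
    rwa [g.2.2 _ (by simp)] at this
  · intro hX
    obtain ⟨g, h1, h2⟩ := exists_smul_Q0 D0_mem hX
    exact ⟨⟨g, g.2, List.forall_mem_singleton.2 h1⟩, h2⟩

theorem quartet_std : (quartets (ofMask 8449646)).ncard = 220 ∧
    Nat.card (Chain.fix M24 ([8449646].map ofMask) ⊓
      MulAction.stabilizer (Equiv.Perm GolayPt) (dec 4 cQ) : Subgroup _) = 432 := by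
  have h1 := ncard_orbit_mul_card (Chain.fix M24 ([8449646].map ofMask)) (dec 4 cQ)
  rw [orbit_Q0, show Nat.card (Chain.fix M24 ([8449646].map ofMask)) = 95040 from
    card_fix_d D0_mem] at h1
  have h2 := le_card_of_enum gensIn_gQ enum_gQ
  have h3 : 220 ≤ (quartets (ofMask 8449646)).ncard :=
    le_ncard_of_inv (gens := gD) (fuel := 220) (by decide +kernel) Q0_mem fun g hg =>
      ⟨_, (goodGens_spec ggD g hg).1, fun X hX => by
        have := smul_mem_quartets (goodGens_spec ggD g hg).2.1 hX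
        rwa [(goodGens_spec ggD g hg).2.2 _ (by simp)] at this⟩
  constructor <;> nlinarith

theorem image_quartets (g : M24) (d : Finset GolayPt) :
    (fun X => g • X) '' quartets d = quartets (g • d) := by
  ext X
  constructor
  · rintro ⟨Y, hY, rfl⟩; exact smul_mem_quartets g.2 hY
  · intro hX
    refine ⟨g⁻¹ • X, ?_, smul_inv_smul g X⟩
    have : g⁻¹ • X ∈ quartets (g⁻¹ • g • d) := smul_mem_quartets g⁻¹.2 hX
    rwa [inv_smul_smul] at this

theorem ncard_quartets {d : Finset GolayPt} (hd : d ∈ dodecads) : (quartets d).ncard = 220 := by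
  obtain ⟨g, hg, e⟩ := dodecad_trans D0_mem hd
  have := image_quartets ⟨g, hg⟩ (ofMask 8449646)
  rw [M24_smul_def, e] at this
  rw [← this, Set.ncard_image_of_injective _ (MulAction.injective _), quartet_std.1]

/-- the standard quartet stabiliser inside `↥M24` and as a permutation group -/
noncomputable def stabQEquiv : ↥(MulAction.stabilizer M24 (ofMask 8449646) ⊓ MulAction.stabilizer M24 (dec 4 cQ))
    ≃* ↥(Chain.fix M24 ([8449646].map ofMask) ⊓
      MulAction.stabilizer (Equiv.Perm GolayPt) (dec 4 cQ)) :=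
  Chain.equivOfMemIff _ _ (fun _ h => h.1.1) fun g =>
    ⟨fun h => ⟨⟨g.2, List.forall_mem_singleton.2 h.1⟩, h.2⟩, fun h => ⟨h.1.2 _ (by simp), h.2⟩⟩

theorem mem_inf_conj {G X Y : Type*} [Group G] [MulAction G X] [MulAction G Y] (g : G) (x : X)
    (y : Y) (h : G) : h ∈ MulAction.stabilizer G x ⊓ MulAction.stabilizer G y ↔
      g * h * g⁻¹ ∈ MulAction.stabilizer G (g • x) ⊓ MulAction.stabilizer G (g • y) := by
  rw [Subgroup.mem_inf, Subgroup.mem_inf, ← mem_stabilizer_conj, ← mem_stabilizer_conj]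

end CL.M24S
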